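import Groth.Agent.Lib.AsympCoh5.Hhat

/-!
# Short exact sequences with a small end term
-/

set_option autoImplicit false
set_option linter.all false
set_option backward.isDefEq.respectTransparency false

universe u

open CategoryTheory CategoryTheory.Limits AlgebraicGeometry TopologicalSpace Filter Topology

noncomputable section

namespace GrothLib.AsympCoh5

open GrothLib.Euler (tF)
open GrothLib.GrowthBd (wt)
open GrothLib.Snapper (DimLT tw hf)
open GrothLib.Cube (Pic clsMod HasCls hasCls_clsMod)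
open GrothLib.HodgeIndex (rep isInv_rep)

variable {X : Scheme.{u}} {k : Type u} [Field k] [X.Over (Spec (CommRingCat.of k))]
  [IsProper (X ↘ Spec (CommRingCat.of k))]

theorem dimLT_of_dim_lt {S : Set X} {n : ℕ} (h : topologicalKrullDim S < (n : WithBot ℕ∞)) : DimLT S n := by
  cases n with
  | zero =>
    refine GrothLib.Snapper.dimLT_zero_of_dim_le_bot ?_
    cases hx : topologicalKrullDim S with
    | bot => rfl
    | coe a =>
      rw [hx, Nat.cast_zero, ← WithBot.coe_zero, WithBot.coe_lt_coe] at h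
      exact absurd h (not_lt_bot)
  | succ m =>
    refine GrothLib.Snapper.dimLT_of_dim_le ?_
    cases hx : topologicalKrullDim S with
    | bot => exact bot_le
    | coe a =>
      rw [hx, show ((m + 1 : ℕ) : WithBot ℕ∞) = (((m + 1 : ℕ) : ℕ∞) : WithBot ℕ∞) from rfl, WithBot.coe_lt_coe] at h
      rw [show ((m : ℕ) : WithBot ℕ∞) = (((m : ℕ) : ℕ∞) : WithBot ℕ∞) from rfl, WithBot.coe_le_coe]
      rw [Nat.cast_succ] at h
      exact Order.le_of_lt_add_one h

variable (k) in
/-- The three inequalities of a twisted short exact sequence. -/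
theorem hf_ses {S : ShortComplex X.Modules} (hS : S.ShortExact) (hA : Coh.IsCoh S.X₁) (hB : Coh.IsCoh S.X₂)
    (hC : Coh.IsCoh S.X₃) (v : Pic X) (l : ℕ) :
    hf k S.X₂ v l ≤ hf k S.X₁ v l + hf k S.X₃ v l ∧
      hf k S.X₃ v l ≤ hf k S.X₂ v l + hf k S.X₁ v (l + 1) ∧
      hf k S.X₁ v (l + 1) ≤ hf k S.X₃ v l + hf k S.X₂ v (l + 1) ∧
      hf k S.X₁ v 0 ≤ hf k S.X₂ v 0 := by
  haveI := GrothLib.Euler.isNoetherian_of_proper (X := X) k
  have hT : (S.map (tF (rep v))).ShortExact :=
    OX.tensor_map_shortExact (OX.flat_of_isFinLocFree (GrothLib.Euler.isFinLocFree_of_isInvertible (isInv_rep v))) hS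
  have c1 : Coh.IsCoh (S.map (tF (rep v))).X₁ := GrothLib.Snapper.isCoh_tw k hA v
  have c2 : Coh.IsCoh (S.map (tF (rep v))).X₂ := GrothLib.Snapper.isCoh_tw k hB v
  have c3 : Coh.IsCoh (S.map (tF (rep v))).X₃ := GrothLib.Snapper.isCoh_tw k hC v
  refine ⟨GrothLib.NefGrowth.hl_X₂_le k hT c1 c2 c3 l, ?_, GrothLib.NefGrowth.hl_X₁_le k hT c1 c2 c3 l, ?_⟩
  · haveI := GrothLib.Euler.finiteDimensional_HH k c1 (l + 1)
    haveI := GrothLib.Euler.finiteDimensional_HH k c2 l
    haveI := GrothLib.Euler.finiteDimensional_HH k c3 l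
    haveI := GrothLib.Euler.finiteDimensional_HH k (GrothLib.Snapper.isCoh_tw k hA v) (l + 1)
    haveI := GrothLib.Euler.finiteDimensional_HH k (GrothLib.Snapper.isCoh_tw k hB v) l
    haveI := GrothLib.Euler.finiteDimensional_HH k (GrothLib.Snapper.isCoh_tw k hC v) l
    exact GrothLib.Snapper.exact_finrank_le k (Cohom.exact₃ hT l)
  · haveI : Mono (S.map (tF (rep v))).f := hT.mono_f
    exact GrothLib.Euler.finrank_H0_le_of_mono k (S.map (tF (rep v))).f c2

/-- Sequences differing by the cohomology of a small module have the same upper limit. -/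
theorem limsup_eq_of_small {H : X.Modules} (hH : CohB1.IsAmple H) {n : ℕ} {F G Q : X.Modules}
    (hF : Coh.IsCoh F) (hG : Coh.IsCoh G) (hFd : DimLT (CohB1.support F) (n + 1))
    (hGd : DimLT (CohB1.support G) (n + 1)) (hQ : Coh.IsCoh Q) (hQd : DimLT (CohB1.support Q) n) (x : Pic X) (i : ℕ)
    (h : ∀ v : Pic X, hf k F v i ≤ hf k G v i + (hf k Q v i + hf k Q v (i + 1) + hf k Q v (i - 1)) ∧
      hf k G v i ≤ hf k F v i + (hf k Q v i + hf k Q v (i + 1) + hf k Q v (i - 1))) :
    limsup (sq k F x n i) atTop = limsup (sq k G x n i) atTop := by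
  obtain ⟨C, hC0, hC⟩ := exists_bound_small k hH hQ hQd (fun _ : Fin 1 => x)
  refine limsup_eq_of_tendsto (sq_nonneg k _ _ _ _) (sq_nonneg k _ _ _ _) (sq_bounded hH hF hFd x i)
    (sq_bounded hH hG hGd x i) (tendsto_const_div_natCast (3 * C * n.factorial * 2 ^ (n - 1)))
    (eventually_atTop.2 ⟨1, fun m hm => ?_⟩)
  have hb : ∀ l, hf k Q (x ^ m) l ≤ C * (2 * m) ^ (n - 1) := fun l => by
    have := hC l (fun _ => (m : ℤ))
    simp only [zpow_natCast, Finset.univ_unique, Finset.prod_singleton] at this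
    refine this.trans (Nat.mul_le_mul_left _ (Nat.pow_le_pow_left ?_ _))
    simp [GrothLib.GrowthBd.wt]
    omega
  obtain ⟨h1, h2⟩ := h (x ^ m)
  have e := abs_sub_le_of_le
    (h1.trans (Nat.add_le_add_left (Nat.add_le_add (Nat.add_le_add (hb _) (hb _)) (hb _)) _))
    (h2.trans (Nat.add_le_add_left (Nat.add_le_add (Nat.add_le_add (hb _) (hb _)) (hb _)) _))
  have hm' : (0 : ℝ) < m := by exact_mod_cast hm
  rw [sq, sq, ← sub_div, ← sub_mul, abs_div, abs_mul, abs_of_nonneg (by positivity : (0 : ℝ) ≤ (n.factorial : ℝ)),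
    abs_of_nonneg (by positivity : (0 : ℝ) ≤ (m : ℝ) ^ n), div_le_iff₀ (by positivity)]
  refine (mul_le_mul_of_nonneg_right e (Nat.cast_nonneg _)).trans ?_
  rcases Nat.eq_zero_or_pos n with hn | hn
  · simp [hC0 hn]
  push_cast
  rw [mul_pow]
  refine le_of_eq ?_
  calc _ = 3 * (C : ℝ) * n.factorial * 2 ^ (n - 1) / m * ((m : ℝ) ^ (n - 1) * m) := by field_simp; ring
    _ = _ := by rw [← pow_succ, Nat.sub_add_cancel hn]

end GrothLib.AsympCoh5
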