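import Groth.Agent.Lib.AsympCoh5.Hhat
import Groth.Agent.Lib.GrowthBd20.Base
import Groth.Agent.Lib.CurveMult.StableSeparated
import Groth.Agent.Lib.FibreDim5.Basic
import Groth.Agent.Lib.QCoh.SupportPullback
import Groth.Agent.Lib.NumTau26.Main

/-!
# A uniform bound on the cohomology of twists of a bounded family
-/

set_option autoImplicit false
set_option linter.all false
set_option backward.isDefEq.respectTransparency false
set_option maxHeartbeats 800000

universe u

open CategoryTheory CategoryTheory.Limits AlgebraicGeometry TopologicalSpace Filter Topology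

noncomputable section

namespace GrothLib.AsympCoh5

open GrothLib.GrowthBd (rk wt exists_bound fiberRank_baseChange fiberRank_congr)
open GrothLib.Snapper (DimLT tw hf)
open GrothLib.Cube (Pic clsMod HasCls hasCls_clsMod)

theorem dimLT_preimage_embedding {A B : Scheme.{u}} (g : A ⟶ B) (hg : IsInducing g.base)
    (hinj : Function.Injective g.base) {S : Set B} {d : ℕ} (h : DimLT S d) {S' : Set A}
    (hS : ∀ a ∈ S', g a ∈ S) : DimLT S' d := fun l hl => by
  have hmono : StrictMono (fun w : A => g w) := fun a c hac =>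
    lt_of_le_not_ge (hac.le.map g.continuous) fun h' => hac.not_ge (hg.specializes_iff.1 h')
  exact h (l.map _ hmono) fun j => hS _ (hl j)

/-- Twists along the strata of one point, in terms of the dimension of the support over that point. -/
theorem exists_fam_bound_near {k : Type u} [Field k] {P T : Scheme.{u}} (f : P ⟶ T) [IsProper f] [IsNoetherian T]
    (hamp : ∀ (Y : Scheme.{u}) [IsAffine Y] (g : Y ⟶ T) (X₁ : Scheme.{u}) (g' : X₁ ⟶ P) (f' : X₁ ⟶ Y),
      IsPullback g' f' f g → CompactSpace X₁ → ∃ H : X₁.Modules, CohB1.IsAmple H)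
    {F : P.Modules} (hF : Coh.IsCoh F) {L : P.Modules} (hL : PicF.IsInvertible L) (d : ℕ) (ξ : T)
    (hξd : DimLT (CohB1.support F ∩ f ⁻¹' {ξ}) (d + 1)) :
    ∃ (W : T.Opens) (C : ℕ), ξ ∈ W ∧ ∀ t ∈ W, ξ ⤳ t → ∀ m : ℕ, 1 ≤ m → ∀ i : ℕ,
      CohIII.fiberRank f (CohB1.tensorMod F (CohB1.tensorPow L m)) i t ≤ C * (2 * m) ^ d := by
  obtain ⟨V, hV, hξV, -⟩ := exists_isAffineOpen_mem_and_subset (x := ξ) (U := (⊤ : T.Opens)) trivial
  haveI : IsNoetherianRing Γ(T, V) := IsLocallyNoetherian.component_noetherian ⟨V, hV⟩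
  let p := (hV.primeIdealOf ⟨ξ, hξV⟩).asIdeal
  haveI : p.IsPrime := (hV.primeIdealOf ⟨ξ, hξV⟩).isPrime
  let q : Γ(T, V) ⟶ CommRingCat.of (Γ(T, V) ⧸ p) := CommRingCat.ofHom (Ideal.Quotient.mk p)
  let Y := Spec (CommRingCat.of (Γ(T, V) ⧸ p))
  haveI : IsDomain ↑(CommRingCat.of (Γ(T, V) ⧸ p)) := inferInstanceAs (IsDomain (Γ(T, V) ⧸ p))
  haveI : IsNoetherianRing ↑(CommRingCat.of (Γ(T, V) ⧸ p)) :=
    inferInstanceAs (IsNoetherianRing (Γ(T, V) ⧸ p))
  haveI : IsClosedImmersion (Spec.map q) := IsClosedImmersion.spec_of_surjective _ Ideal.Quotient.mk_surjective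
  let g : Y ⟶ T := Spec.map q ≫ hV.fromSpec
  have hmem : ∀ t : T, ξ ⤳ t → t ∈ V → ∃ y : Y, g y = t := by
    intro t ht htV
    have h1 : hV.primeIdealOf ⟨ξ, hξV⟩ ⤳ hV.primeIdealOf ⟨t, htV⟩ := by
      rw [← hV.fromSpec.isEmbedding.isInducing.specializes_iff, hV.fromSpec_primeIdealOf,
        hV.fromSpec_primeIdealOf]
      exact ht
    have h2 : p ≤ (hV.primeIdealOf ⟨t, htV⟩).asIdeal := (PrimeSpectrum.le_iff_specializes _ _).2 h1
    obtain ⟨y, hy⟩ : hV.primeIdealOf ⟨t, htV⟩ ∈ Set.range (PrimeSpectrum.comap (Ideal.Quotient.mk p)) := by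
      rw [_root_.range_comap_of_surjective _ _ Ideal.Quotient.mk_surjective, Ideal.mk_ker,
        PrimeSpectrum.mem_zeroLocus, SetLike.coe_subset_coe]
      exact h2
    refine ⟨y, ?_⟩
    show hV.fromSpec (Spec.map q y) = t
    rw [show Spec.map q y = PrimeSpectrum.comap (Ideal.Quotient.mk p) y from rfl, hy, hV.fromSpec_primeIdealOf]
  obtain ⟨y₀, hy₀⟩ := hmem ξ specializes_rfl hξV
  have hgη : g (genericPoint Y) = ξ := by
    have h1 : g (genericPoint Y) ⤳ ξ := hy₀ ▸ ((genericPoint_spec Y).specializes trivial).map g.continuous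
    refine (h1.antisymm ?_).eq
    show ξ ⤳ hV.fromSpec (Spec.map q (genericPoint Y))
    have e0 : hV.fromSpec (hV.primeIdealOf ⟨ξ, hξV⟩) = ξ := hV.fromSpec_primeIdealOf ⟨ξ, hξV⟩
    refine e0 ▸ Specializes.map ((PrimeSpectrum.le_iff_specializes _ _).1 ?_) hV.fromSpec.continuous
    intro a ha
    show Ideal.Quotient.mk p a ∈ (genericPoint Y).asIdeal
    rw [Ideal.Quotient.eq_zero_iff_mem.2 ha]
    exact zero_mem _
  let X₁ := pullback f g
  let g' : X₁ ⟶ P := pullback.fst f g
  let f' : X₁ ⟶ Y := pullback.snd f g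
  have hc : IsPullback g' f' f g := IsPullback.of_hasPullback f g
  haveI : IsProper f' := MorphismProperty.pullback_snd (P := @IsProper) f g ‹_›
  haveI : IsPreimmersion g := inferInstance
  haveI : IsPreimmersion g' := MorphismProperty.of_isPullback (P := @IsPreimmersion) hc.flip inferInstance
  haveI : IsLocallyNoetherian X₁ := LocallyOfFiniteType.isLocallyNoetherian f'
  haveI : CompactSpace X₁ := QuasiCompact.compactSpace_of_compactSpace f'
  haveI : IsNoetherian X₁ := {}
  haveI : X₁.IsSeparated := ⟨by rw [← terminal.comp_from f']; infer_instance⟩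
  obtain ⟨H, hH⟩ := hamp Y g X₁ g' f' hc inferInstance
  haveI := hF.1
  let G := (Scheme.Modules.pullback g').obj F
  have hG : Coh.IsCoh G := ModDesc.isCoh_pullback g' F hF
  let x := clsMod (Ample.isInvertible_pullback g' hL)
  have hdl : DimLT (CohB1.support G ∩ f' ⁻¹' {genericPoint Y}) (d + 1) := by
    refine dimLT_preimage_embedding g' g'.isEmbedding.isInducing g'.isEmbedding.injective hξd fun a ha => ⟨?_, ?_⟩
    · have := ha.1
      rwa [GrothLib.QCoh.support_pullback g' F hF] at this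
    · show f (g' a) = ξ
      rw [← Scheme.Hom.comp_apply, hc.w, Scheme.Hom.comp_apply,
        show f' a = genericPoint Y from ha.2, hgη]
  obtain ⟨C, hC⟩ := exists_bound f' hH hG hdl (fun _ : Fin 1 => x)
  obtain ⟨U₂, hU₂, hU₂o, hη₂⟩ := eventually_nhds_iff.1 hC
  have hgi : IsInducing g.base := (hV.fromSpec.isEmbedding.comp (Spec.map q).isEmbedding).isInducing
  obtain ⟨O, hO, hOU⟩ := hgi.isOpen_iff.1 hU₂o
  refine ⟨⟨O, hO⟩ ⊓ V, C, ⟨?_, hξV⟩, fun t ht hξt m hm i => ?_⟩
  · show ξ ∈ O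
    rw [← hgη]
    exact hOU.ge hη₂
  obtain ⟨y, rfl⟩ := hmem t hξt ht.2
  have hy₂ : y ∈ U₂ := hOU.le ht.1
  obtain ⟨e1⟩ := Ample.nonempty_pullback_tensorPow g' hL m
  obtain ⟨e2⟩ := Snapper.tw_iso (F := G) ((hasCls_clsMod (Ample.isInvertible_pullback g' hL)).tensorPow m)
  have key := hU₂ y hy₂ i (fun _ => (m : ℤ))
  have hprod : ∏ _j : Fin 1, x ^ (m : ℤ) = x ^ m := by simp
  rw [hprod] at key
  haveI : (CohB1.tensorMod F (CohB1.tensorPow L m)).IsQuasicoherent :=
    haveI : IsLocallyNoetherian P := LocallyOfFiniteType.isLocallyNoetherian f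
    (Euler.isCoh_tF hF (Euler.isFinLocFree_of_isInvertible (Ample.isInvertible_tensorPow hL m))).1
  have heq : CohIII.fiberRank f (CohB1.tensorMod F (CohB1.tensorPow L m)) i (g y) = rk f' i G (x ^ m) y := by
    rw [← fiberRank_baseChange hc]
    exact fiberRank_congr f' (OX.pullTensorIso g' F (CohB1.tensorPow L m) ≪≫
      ((DCoh.tensorBi (X := X₁)).obj G).mapIso e1 ≪≫ e2.symm) i y
  rw [heq]
  exact key.trans (Nat.mul_le_mul_left _ (Nat.pow_le_pow_left (by simp [wt]; omega) _))

variable {k : Type u} [Field k] {X : Scheme.{u}} [X.Over (Spec (CommRingCat.of k))]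
  [IsProper (X ↘ Spec (CommRingCat.of k))]

/-- The twists of the members of a bounded family with supports of dimension `≤ d` grow uniformly. -/
theorem exists_bound_of_isBounded {H : X.Modules} (hH : CohB1.IsAmple H) {R : X.Modules → Prop}
    (hb : Pic13.IsBounded k X R) {d : ℕ} (hd : ∀ F, R F → DimLT (CohB1.support F) (d + 1)) (x : Pic X) :
    ∃ C : ℕ, ∀ F, R F → ∀ m : ℕ, 1 ≤ m → ∀ i : ℕ, hf k F (x ^ m) i ≤ C * (2 * m) ^ d := by
  obtain ⟨T, q, hft, hqc, G, hG, hall⟩ := hb
  haveI := GrothLib.Euler.isNoetherian_of_proper (X := X) k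
  haveI := hft
  haveI := hqc
  haveI : IsLocallyNoetherian T := LocallyOfFiniteType.isLocallyNoetherian q
  haveI : CompactSpace T := QuasiCompact.compactSpace_of_compactSpace q
  haveI : IsNoetherian T := {}
  let P := Pic13.prodK k X q
  let π : P ⟶ T := pullback.snd _ _
  let pr : P ⟶ X := pullback.fst _ _
  haveI : IsProper π := MorphismProperty.pullback_snd (P := @IsProper) _ q inferInstance
  haveI : IsLocallyNoetherian P := LocallyOfFiniteType.isLocallyNoetherian π
  obtain ⟨L, hL, hLx⟩ := GrothLib.Kodaira.exists_rep x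
  let L' := (Scheme.Modules.pullback pr).obj L
  have hL' : PicF.IsInvertible L' := Ample.isInvertible_pullback pr hL
  have hamp : ∀ (Y : Scheme.{u}) [IsAffine Y] (g : Y ⟶ T) (X₁ : Scheme.{u}) (g' : X₁ ⟶ P) (f' : X₁ ⟶ Y),
      IsPullback g' f' π g → CompactSpace X₁ → ∃ H : X₁.Modules, CohB1.IsAmple H := by
    intro Y _ g X₁ g' f' hc hcs
    have h2 : IsPullback (g' ≫ pr) f' (X ↘ Spec (CommRingCat.of k)) (g ≫ q) :=
      (hc.flip.paste_vert (IsPullback.of_hasPullback (X ↘ Spec (CommRingCat.of k)) q).flip).flip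
    haveI : IsAffineHom (g' ≫ pr) :=
      MorphismProperty.of_isPullback (P := @IsAffineHom) h2.flip inferInstance
    exact ⟨_, Ample.isAmple_pullback_of_isAffineHom (g' ≫ pr) hH⟩
  -- the dimension of the support over the points
  let S : Closeds P := ⟨CohB1.support G, GrothLib.QCoh.isClosed_support_of_isCoh hG⟩
  let j := (Scheme.IdealSheafData.vanishingIdeal S).subschemeι
  have hrange : Set.range j.base = CohB1.support G := by
    exact (Scheme.IdealSheafData.range_subschemeι _).trans (Scheme.IdealSheafData.coe_support_vanishingIdeal S)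
  let g := j ≫ π
  have hdimS : ∀ t : T, topologicalKrullDim ↥(g.fiber t) = topologicalKrullDim ↥(CohB1.support G ∩ π ⁻¹' {t}) := by
    intro t
    refine (IsHomeomorph.topologicalKrullDim_eq _ (g.fiberHomeo t).isHomeomorph).trans
      ((IsHomeomorph.topologicalKrullDim_eq _ (j.isEmbedding.homeomorphImage (g ⁻¹' {t})).isHomeomorph).trans ?_)
    rw [show j.base '' (g ⁻¹' {t}) = CohB1.support G ∩ π ⁻¹' {t} by
      rw [← hrange, show g ⁻¹' {t} = j.base ⁻¹' (π ⁻¹' {t}) from rfl, Set.image_preimage_eq_range_inter]]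
  have hgen : ∀ ξ t : T, ξ ⤳ t → topologicalKrullDim ↥(g.fiber t) ≤ (d : WithBot ℕ∞) →
      DimLT (CohB1.support G ∩ π ⁻¹' {ξ}) (d + 1) := by
    intro ξ t hξt ht
    refine GrothLib.Snapper.dimLT_of_dim_le ?_
    rw [← hdimS, GrothLib.FibreDim5.not_le_natCast_iff]
    intro h
    have := hξt.mem_closed (GrothLib.FibreDim5.isClosed_le_dim_fiber g g.isClosedMap (d + 1)) h
    exact (GrothLib.FibreDim5.not_le_natCast_iff _ _).1 ht this
  -- the uniform bound
  have key : ∀ Z : Closeds T, ∃ C : ℕ, ∀ t ∈ Z, topologicalKrullDim ↥(g.fiber t) ≤ (d : WithBot ℕ∞) →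
      ∀ m : ℕ, 1 ≤ m → ∀ i : ℕ,
        CohIII.fiberRank π (CohB1.tensorMod G (CohB1.tensorPow L' m)) i t ≤ C * (2 * m) ^ d := by
    intro Z
    induction Z using WellFoundedLT.induction with
    | ind Z ih =>
      rcases Set.eq_empty_or_nonempty (Z : Set T) with hZ | hZ
      · exact ⟨0, fun t ht => absurd (show t ∈ (Z : Set T) from ht) (by rw [hZ]; exact id)⟩
      by_cases hirr : IsPreirreducible (Z : Set T)
      · obtain ⟨ξ, hξ⟩ := QuasiSober.sober ⟨hZ, hirr⟩ Z.2
        by_cases hξd : DimLT (CohB1.support G ∩ π ⁻¹' {ξ}) (d + 1)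
        swap
        · exact ⟨0, fun t ht htd => absurd (hgen ξ t (hξ.specializes ht) htd) hξd⟩
        obtain ⟨W, C, hξW, hW⟩ := exists_fam_bound_near (k := k) π hamp hG hL' d ξ hξd
        let Z' : Closeds T := ⟨(Z : Set T) ∩ (W : Set T)ᶜ, Z.2.inter W.2.isClosed_compl⟩
        have hlt : Z' < Z := by
          refine lt_of_le_of_ne (fun t ht => ht.1) fun heq => ?_
          have : ξ ∈ Z' := heq.symm ▸ hξ.mem
          exact this.2 hξW
        obtain ⟨C', hC'⟩ := ih Z' hlt
        refine ⟨C + C', fun t ht htd m hm i => ?_⟩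
        rw [Nat.add_mul]
        by_cases htW : t ∈ W
        · exact (hW t htW (hξ.specializes ht) m hm i).trans (Nat.le_add_right _ _)
        · exact (hC' t ⟨ht, htW⟩ htd m hm i).trans (Nat.le_add_left _ _)
      · simp only [isPreirreducible_iff_isClosed_union_isClosed, not_forall, not_or] at hirr
        obtain ⟨A, B, hA, hB, hsub, hnA, hnB⟩ := hirr
        have key : ∀ {D : Set T} (hD : IsClosed D), ¬ (Z : Set T) ⊆ D →
            (⟨(Z : Set T) ∩ D, Z.2.inter hD⟩ : Closeds T) < Z := fun hD hn =>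
          lt_of_le_of_ne (fun t ht => ht.1) fun heq => hn fun t ht =>
            ((show t ∈ (⟨_, Z.2.inter hD⟩ : Closeds T) from heq.symm ▸ ht)).2
        obtain ⟨C₁, h₁⟩ := ih _ (key hA hnA)
        obtain ⟨C₂, h₂⟩ := ih _ (key hB hnB)
        refine ⟨C₁ + C₂, fun t ht htd m hm i => ?_⟩
        rw [Nat.add_mul]
        rcases hsub ht with hm' | hm'
        · exact (h₁ t ⟨ht, hm'⟩ htd m hm i).trans (Nat.le_add_right _ _)
        · exact (h₂ t ⟨ht, hm'⟩ htd m hm i).trans (Nat.le_add_left _ _)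
  obtain ⟨C, hC⟩ := key ⊤
  refine ⟨C, fun F hF m hm i => ?_⟩
  obtain ⟨t, ht, ⟨e⟩⟩ := hall F hF
  let s := Pic13.sliceAt k X q t ht
  have hs1 : s ≫ pr = 𝟙 X := pullback.lift_fst _ _ _
  have hs2 : s ≫ π = (X ↘ Spec (CommRingCat.of k)) ≫ t := pullback.lift_snd _ _ _
  have hpb : IsPullback s (X ↘ Spec (CommRingCat.of k)) π t := by
    refine IsPullback.of_right ?_ hs2 (IsPullback.of_hasPullback (X ↘ Spec (CommRingCat.of k)) q)
    rw [hs1, ht]
    exact IsPullback.of_horiz_isIso ⟨by simp⟩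
  have hqt : ∀ z : Spec (CommRingCat.of k), z = IsLocalRing.closedPoint k := fun z => Subsingleton.elim _ _
  haveI : IsPreimmersion t := by
    haveI : IsImmersion (t ≫ q) := by rw [ht]; infer_instance
    haveI := IsImmersion.of_comp t q
    infer_instance
  haveI : IsPreimmersion s := MorphismProperty.of_isPullback (P := @IsPreimmersion) hpb.flip inferInstance
  set t₀ : T := t (IsLocalRing.closedPoint k)
  have hgood : topologicalKrullDim ↥(g.fiber t₀) ≤ (d : WithBot ℕ∞) := by
    rw [hdimS]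
    have himg : s.base '' (CohB1.support F) = CohB1.support G ∩ π ⁻¹' {t₀} := by
      rw [← GrothLib.QCoh.support_eq_of_iso e, show CohB1.support (Pic13.fibreMod k X q t ht G) =
        s.base ⁻¹' CohB1.support G from GrothLib.QCoh.support_pullback s G hG, Set.image_preimage_eq_inter_range]
      congr 1
      ext p
      constructor
      · rintro ⟨a, rfl⟩
        show π (s a) = t₀
        rw [← Scheme.Hom.comp_apply, hs2, Scheme.Hom.comp_apply, hqt ((X ↘ Spec (CommRingCat.of k)) a)]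
      · intro hp
        obtain ⟨a, ha, -⟩ := Scheme.exists_preimage_of_isPullback hpb p (IsLocalRing.closedPoint k) hp
        exact ⟨a, ha⟩
    rw [← himg, ← IsHomeomorph.topologicalKrullDim_eq _ (s.isEmbedding.homeomorphImage (CohB1.support F)).isHomeomorph]
    exact GrothLib.Snapper.dim_le_of_dimLT
      (GrothLib.QCoh.isClosed_support_of_isCoh (GrothLib.QCoh.isCoh_of_iso e (ModDesc.isCoh_pullback s G hG))) (hd F hF)
  have h := hC t₀ trivial hgood m hm i
  haveI : (CohB1.tensorMod G (CohB1.tensorPow L' m)).IsQuasicoherent :=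
    (Euler.isCoh_tF hG (Euler.isFinLocFree_of_isInvertible (Ample.isInvertible_tensorPow hL' m))).1
  rw [CurveMult.StableSeparated.fiberRank_point k π t s hpb] at h
  obtain ⟨e1⟩ := Ample.nonempty_pullback_tensorPow s hL' m
  have hLs : HasCls ((Scheme.Modules.pullback s).obj L') x := by
    have := ((show HasCls L x from ⟨hL, hLx⟩).pullback pr).pullback s
    rwa [GrothLib.Cube.pull_comp, hs1, GrothLib.Cube.pull_id] at this
  obtain ⟨e2⟩ := GrothLib.Snapper.tw_iso (F := F) (hLs.tensorPow m)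
  refine le_of_eq_of_le ?_ h
  exact GrothLib.NefGrowth.hl_iso k (e2 ≪≫ ((GrothLib.Euler.tF _).mapIso e.symm) ≪≫
    ((DCoh.tensorBi (X := X)).obj _).mapIso e1.symm ≪≫ (OX.pullTensorIso s G (CohB1.tensorPow L' m)).symm) i

end GrothLib.AsympCoh5
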