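import Groth.Agent.Lib.GrowthBd20.Field
import Groth.Prelude.Def_W4c5asymptcohfnACF

/-!
# The cohomology of twists is Lipschitz in the exponents, up to lower order
-/

set_option autoImplicit false
set_option linter.all false
set_option backward.isDefEq.respectTransparency false

universe u

open CategoryTheory CategoryTheory.Limits AlgebraicGeometry TopologicalSpace Filter

noncomputable section

namespace GrothLib.AsympCoh5

open GrothLib.Euler (tF)
open GrothLib.GrowthBd (Sm Step wt sm_hf)
open GrothLib.Snapper (DimLT tw hf)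
open GrothLib.Cube (Pic clsMod HasCls hasCls_clsMod hasCls_structureModule)
open GrothLib.HodgeIndex (rep isInv_rep cls_rep)

variable {X : Scheme.{u}} (k : Type u) [Field k] [X.Over (Spec (CommRingCat.of k))]
  [IsProper (X ↘ Spec (CommRingCat.of k))]

/-- Every class changes the cohomology of twists of a module of dimension `≤ d` by a function of
class `d`. -/
theorem step_hf {H : X.Modules} (hH : CohB1.IsAmple H) {d : ℕ} {F : X.Modules} (hF : Coh.IsCoh F)
    (hd : DimLT (CohB1.support F) (d + 1)) (i : ℕ) (z : Pic X) :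
    Step (⊤ : Filter Unit) (fun w _ => hf k F w i) d z := by
  have hamp : ∀ {A : X.Modules} (hA : CohB1.IsAmple A),
      Step (⊤ : Filter Unit) (fun w _ => hf k F w i) d (clsMod hA.1) := by
    intro A hA
    obtain ⟨m₀, hm₀⟩ := Snapper.exists_twist_step k hA hF hd
    have hp : ∀ m, m₀ ≤ m → Step (⊤ : Filter Unit) (fun w _ => hf k F w i) d (clsMod hA.1 ^ m) := by
      intro m hm
      obtain ⟨Q, hQ, hQd, hs⟩ := hm₀ m hm
      cases i with
      | zero =>
        refine ⟨_, sm_hf k hH d Q hQ hQd 0, Eventually.of_forall fun _ w => ?_⟩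
        obtain ⟨a1, -, -, a4⟩ := hs w 0
        exact ⟨a1, a4.trans (Nat.le_add_right _ _)⟩
      | succ l =>
        refine ⟨_, (sm_hf k hH d Q hQ hQd (l + 1)).add (sm_hf k hH d Q hQ hQd l),
          Eventually.of_forall fun _ w => ?_⟩
        obtain ⟨a1, -, -, -⟩ := hs w (l + 1)
        obtain ⟨-, -, a3, -⟩ := hs w l
        dsimp only
        constructor <;> omega
    have := (hp (m₀ + 1) (Nat.le_succ _)).mul (hp m₀ le_rfl).inv
    rwa [pow_succ, mul_comm (clsMod hA.1 ^ m₀), mul_inv_cancel_right] at this
  obtain ⟨j₀, hj₀⟩ := Kodaira.exists_isAmple_pow_tensor hH (isInv_rep z)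
  have hA := hj₀ (j₀ + 1) (Nat.le_succ _)
  have hHj : CohB1.IsAmple (CohB1.tensorPow H (j₀ + 1)) :=
    (Ample.isAmple_tensorPow_iff hH.1 (Nat.succ_pos j₀)).1 hH
  have h := (hamp hA).mul (hamp hHj).inv
  have e1 : clsMod hA.1 = clsMod hHj.1 * z := by
    rw [← Cube.HasCls.eq ((hasCls_clsMod hHj.1).tensor ⟨isInv_rep z, cls_rep z⟩) (hasCls_clsMod hA.1)
      ⟨Iso.refl _⟩]
  rwa [e1, mul_comm (clsMod hHj.1), mul_inv_cancel_right] at h

/-- **Lipschitz bound.** -/
theorem exists_lipschitz {H : X.Modules} (hH : CohB1.IsAmple H) {d : ℕ} {F : X.Modules} (hF : Coh.IsCoh F)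
    (hd : DimLT (CohB1.support F) (d + 1)) {r : ℕ} (z : Fin r → Pic X) (i : ℕ) :
    ∃ C : ℕ, (d = 0 → C = 0) ∧ ∀ a b : Fin r → ℤ,
      hf k F (∏ j, z j ^ a j) i ≤
          hf k F (∏ j, z j ^ b j) i + C * (∑ j, (b j - a j).natAbs) * (wt a + wt b) ^ (d - 1) ∧
        hf k F (∏ j, z j ^ b j) i ≤
          hf k F (∏ j, z j ^ a j) i + C * (∑ j, (b j - a j).natAbs) * (wt a + wt b) ^ (d - 1) := by
  classical
  choose G hG he using fun j => step_hf k hH hF hd i (z j)
  have hex : ∃ C : ℕ, (d = 0 → C = 0) ∧ ∀ (j : Fin r) (c : Fin r → ℤ),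
      G j (∏ l, z l ^ c l) () ≤ C * wt c ^ (d - 1) := by
    rcases Nat.eq_zero_or_pos d with h0 | h0
    · refine ⟨0, fun _ => rfl, fun j c => ?_⟩
      have := (hG j).1 h0
      simp only [eventually_top] at this
      simp [this]
    · have : ∀ j, ∃ C : ℕ, ∀ c : Fin r → ℤ, G j (∏ l, z l ^ c l) () ≤ C * wt c ^ (d - 1) := fun j => by
        obtain ⟨C, hC⟩ := (hG j).2 r z 1
        simp only [one_mul, eventually_top] at hC
        exact ⟨C, hC ()⟩
      choose C hC using this
      exact ⟨∑ j, C j, fun h => absurd h (Nat.pos_iff_ne_zero.1 h0), fun j c => (hC j c).trans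
        (Nat.mul_le_mul_right _ (Finset.single_le_sum (f := C) (fun l _ => Nat.zero_le _) (Finset.mem_univ j)))⟩
  obtain ⟨C, hC0, hC⟩ := hex
  refine ⟨C, hC0, fun a b => ?_⟩
  let h : (Fin r → ℤ) → ℕ := fun c => hf k F (∏ j, z j ^ c j) i
  let W := wt a + wt b
  let e := C * W ^ (d - 1)
  have hstep : ∀ (j : Fin r) (c : Fin r → ℤ), (∀ l, (c l).natAbs ≤ (a l).natAbs + (b l).natAbs) →
      h (c + Pi.single j 1) ≤ h c + e ∧ h c ≤ h (c + Pi.single j 1) + e := by
    intro j c hc
    have h1 := he j
    simp only [eventually_top] at h1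
    obtain ⟨a1, a2⟩ := h1 () (∏ l, z l ^ c l)
    have hprod : (∏ l, z l ^ c l) * z j = ∏ l, z l ^ (c + Pi.single j (1 : ℤ) : Fin r → ℤ) l := by
      simp only [Pi.add_apply, zpow_add, Finset.prod_mul_distrib]
      congr 1
      rw [Finset.prod_eq_single j (fun l _ hl => by rw [Pi.single_eq_of_ne hl, zpow_zero])
        (fun h => absurd (Finset.mem_univ j) h), Pi.single_eq_same, zpow_one]
    rw [hprod] at a1 a2
    have hG' : G j (∏ l, z l ^ c l) () ≤ e := by
      refine (hC j c).trans (Nat.mul_le_mul_left _ (Nat.pow_le_pow_left ?_ _))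
      simp only [W, wt]
      have : ∑ l, (c l).natAbs ≤ ∑ l, ((a l).natAbs + (b l).natAbs) := Finset.sum_le_sum fun l _ => hc l
      rw [Finset.sum_add_distrib] at this
      omega
    exact ⟨a1.trans (Nat.add_le_add_left hG' _), a2.trans (Nat.add_le_add_left hG' _)⟩
  have key : ∀ (n : ℕ) (c : Fin r → ℤ), (∑ j, (b j - c j).natAbs) = n →
      (∀ l, (c l).natAbs ≤ (a l).natAbs + (b l).natAbs) →
      h c ≤ h b + n * e ∧ h b ≤ h c + n * e := by
    intro n
    induction n with
    | zero =>
      intro c hc _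
      have hcb : c = b := by
        funext l
        have := (Finset.sum_eq_zero_iff.1 hc) l (Finset.mem_univ l)
        omega
      subst hcb
      simp
    | succ n ih =>
      intro c hc hbd
      obtain ⟨j, hj⟩ : ∃ j, b j ≠ c j := by
        by_contra hne
        push Not at hne
        rw [Finset.sum_eq_zero (fun l _ => by rw [hne l]; simp)] at hc
        omega
      rcases lt_or_gt_of_ne hj with hlt | hgt
      · let c' := c + Pi.single j (-1 : ℤ)
        have hsum : (∑ l, (b l - c' l).natAbs) = n := by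
          rw [← Finset.add_sum_erase _ _ (Finset.mem_univ j)] at hc ⊢
          rw [Finset.sum_congr rfl (g := fun l => (b l - c l).natAbs) (fun l hl => by
            simp [c', Pi.single_eq_of_ne (Finset.ne_of_mem_erase hl)])]
          simp only [c', Pi.add_apply, Pi.single_eq_same]
          omega
        have hbd' : ∀ l, (c' l).natAbs ≤ (a l).natAbs + (b l).natAbs := fun l => by
          by_cases hl : l = j
          · subst hl
            simp only [c', Pi.add_apply, Pi.single_eq_same]
            have := hbd l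
            omega
          · simp only [c', Pi.add_apply, Pi.single_eq_of_ne hl, add_zero]
            exact hbd l
        obtain ⟨i1, i2⟩ := ih c' hsum hbd'
        obtain ⟨s1, s2⟩ := hstep j c' hbd'
        have hback : c' + Pi.single j 1 = c := by
          simp [c', add_assoc, ← Pi.single_add]
        rw [hback] at s1 s2
        rw [Nat.succ_mul]
        constructor <;> omega
      · let c' := c + Pi.single j (1 : ℤ)
        have hsum : (∑ l, (b l - c' l).natAbs) = n := by
          rw [← Finset.add_sum_erase _ _ (Finset.mem_univ j)] at hc ⊢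
          rw [Finset.sum_congr rfl (g := fun l => (b l - c l).natAbs) (fun l hl => by
            simp [c', Pi.single_eq_of_ne (Finset.ne_of_mem_erase hl)])]
          simp only [c', Pi.add_apply, Pi.single_eq_same]
          omega
        have hbd' : ∀ l, (c' l).natAbs ≤ (a l).natAbs + (b l).natAbs := fun l => by
          by_cases hl : l = j
          · subst hl
            simp only [c', Pi.add_apply, Pi.single_eq_same]
            have := hbd l
            omega
          · simp only [c', Pi.add_apply, Pi.single_eq_of_ne hl, add_zero]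
            exact hbd l
        obtain ⟨i1, i2⟩ := ih c' hsum hbd'
        obtain ⟨s1, s2⟩ := hstep j c hbd
        rw [show c + Pi.single j 1 = c' from rfl] at s1 s2
        rw [Nat.succ_mul]
        constructor <;> omega
  have := key _ a rfl fun l => Nat.le_add_right _ _
  have he' : (∑ j, (b j - a j).natAbs) * e = C * (∑ j, (b j - a j).natAbs) * W ^ (d - 1) := by
    simp only [e]; ring
  rw [he'] at this
  exact this

/-- The polynomial bound with exponent one less than `dim`, the degenerate case included. -/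
theorem exists_bound_small {H : X.Modules} (hH : CohB1.IsAmple H) {n : ℕ} {F : X.Modules} (hF : Coh.IsCoh F)
    (hd : DimLT (CohB1.support F) n) {r : ℕ} (z : Fin r → Pic X) :
    ∃ C : ℕ, (n = 0 → C = 0) ∧ ∀ (i : ℕ) (a : Fin r → ℤ), hf k F (∏ j, z j ^ a j) i ≤ C * wt a ^ (n - 1) := by
  cases n with
  | zero => exact ⟨0, fun _ => rfl, fun i a => by simp [Snapper.hf_eq_zero k hd hF]⟩
  | succ m =>
    obtain ⟨C, hC⟩ := GrothLib.GrowthBd.exists_bound_field k hH hF hd z
    exact ⟨C, fun h => absurd h (Nat.succ_ne_zero m), fun i a => by simpa using hC i a⟩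

end GrothLib.AsympCoh5
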