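import Mathlib.Order.LiminfLimsup
import Mathlib.Topology.Algebra.Order.LiminfLimsup
import Mathlib.Analysis.Normed.Group.Basic
import Mathlib.Topology.Order.LiminfLimsup
import Mathlib.Order.Filter.AtTopBot.Floor
import Mathlib.Analysis.SpecificLimits.Basic

/-!
# Upper limits of bounded non-negative sequences
-/

set_option autoImplicit false

open Filter Topology

namespace GrothLib.AsympCoh5

theorem limsup_le_add {u v : ℕ → ℝ} {c : ℝ} (hu : ∀ m, 0 ≤ u m) (hv : IsBoundedUnder (· ≤ ·) atTop v)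
    (h : ∀ᶠ m in atTop, u m ≤ v m + c) : limsup u atTop ≤ limsup v atTop + c := by
  refine le_of_forall_pos_le_add fun ε hε => ?_
  refine limsup_le_of_le (isCoboundedUnder_le_of_le atTop hu) ?_
  filter_upwards [eventually_lt_of_limsup_lt (lt_add_of_pos_right (limsup v atTop) hε) hv, h] with m h1 h2
  linarith

theorem abs_limsup_sub_le {u v : ℕ → ℝ} {c : ℝ} (hu : ∀ m, 0 ≤ u m) (hv : ∀ m, 0 ≤ v m)
    (hu' : IsBoundedUnder (· ≤ ·) atTop u) (hv' : IsBoundedUnder (· ≤ ·) atTop v)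
    (h : ∀ᶠ m in atTop, |u m - v m| ≤ c) : |limsup u atTop - limsup v atTop| ≤ c := by
  rw [abs_sub_le_iff]
  constructor
  · have := limsup_le_add hu hv' (h.mono fun m hm => by linarith [(abs_sub_le_iff.1 hm).1] : ∀ᶠ m in atTop, u m ≤ v m + c)
    linarith
  · have := limsup_le_add hv hu' (h.mono fun m hm => by linarith [(abs_sub_le_iff.1 hm).2] : ∀ᶠ m in atTop, v m ≤ u m + c)
    linarith

theorem limsup_eq_of_tendsto {u v e : ℕ → ℝ} (hu : ∀ m, 0 ≤ u m) (hv : ∀ m, 0 ≤ v m)
    (hu' : IsBoundedUnder (· ≤ ·) atTop u) (hv' : IsBoundedUnder (· ≤ ·) atTop v)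
    (he : Tendsto e atTop (𝓝 0)) (h : ∀ᶠ m in atTop, |u m - v m| ≤ e m) :
    limsup u atTop = limsup v atTop := by
  have key : ∀ c : ℝ, 0 < c → |limsup u atTop - limsup v atTop| ≤ c := fun c hc =>
    abs_limsup_sub_le hu hv hu' hv' (by
      filter_upwards [h, he.eventually (eventually_le_nhds hc)] with m h1 h2
      exact h1.trans h2)
  have : |limsup u atTop - limsup v atTop| ≤ 0 := le_of_forall_pos_le_add fun c hc => by
    simpa using key c hc
  linarith [abs_nonpos_iff.1 this]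

theorem isBounded_of_le {u : ℕ → ℝ} {c : ℝ} (h : ∀ᶠ m in atTop, u m ≤ c) :
    IsBoundedUnder (· ≤ ·) atTop u :=
  isBoundedUnder_of_eventually_le h

theorem tendsto_const_div_natCast (c : ℝ) : Tendsto (fun m : ℕ => c / (m : ℝ)) atTop (𝓝 0) :=
  tendsto_const_div_atTop_nhds_zero_nat c

theorem limsup_comp_div {v : ℕ → ℝ} {a : ℕ} (ha : 1 ≤ a) :
    limsup (fun m => v (m / a)) atTop = limsup v atTop := by
  have h := limsup_comp v (fun m : ℕ => m / a) atTop
  rw [Filter.map_div_atTop_eq_nat a ha] at h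
  exact h

end GrothLib.AsympCoh5
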