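import Groth.Agent.Lib.AsympCoh5.Growth
import Groth.Agent.Lib.AsympCoh5.Limsup
import Groth.Agent.Lib.ArSurf29.Multiple
import Groth.Prelude.Def_ClSub2

/-!
# Asymptotic cohomological functions: bounds and estimates
-/

set_option autoImplicit false
set_option linter.all false
set_option backward.isDefEq.respectTransparency false

universe u

open CategoryTheory CategoryTheory.Limits AlgebraicGeometry TopologicalSpace Filter Topology

noncomputable section

namespace GrothLib.AsympCoh5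

open GrothLib.Euler (tF)
open GrothLib.GrowthBd (wt)
open GrothLib.Snapper (DimLT tw hf)
open GrothLib.Cube (Pic clsMod HasCls hasCls_clsMod hasCls_structureModule)

variable {X : Scheme.{u}} (k : Type u) [Field k] [X.Over (Spec (CommRingCat.of k))]

/-- The normalised sequence of a class. -/
def sq (F : X.Modules) (x : Pic X) (n i : ℕ) (m : ℕ) : ℝ :=
  (hf k F (x ^ m) i : ℝ) * (n.factorial : ℝ) / (m : ℝ) ^ n

theorem sq_nonneg (F : X.Modules) (x : Pic X) (n i m : ℕ) : 0 ≤ sq k F x n i m := by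
  unfold sq; positivity

theorem hl_eq_hf {L : X.Modules} {x : Pic X} (hL : HasCls L x) (i : ℕ) :
    GrothLib.NefGrowth.hl k L i = hf k (Coh.structureModule X) x i := by
  obtain ⟨e⟩ := GrothLib.Snapper.tw_iso (F := Coh.structureModule X) hL
  exact GrothLib.NefGrowth.hl_iso k ((GrothLib.Euler.tFUnitIso L).symm ≪≫
    (GrothLib.GrTilde.tensorModComm L (Coh.structureModule X)) ≪≫ e.symm) i

theorem hhat_eq {L : X.Modules} {x : Pic X} (hL : HasCls L x) (n i : ℕ) :
    W4c5asymptcohfn.hhat k X n i L = limsup (sq k (Coh.structureModule X) x n i) atTop := by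
  refine congrArg (fun u => limsup u atTop) (funext fun m => ?_)
  rw [sq, ← hl_eq_hf k (hL.tensorPow m) i]
  rfl

theorem hhatF_eq {L : X.Modules} {x : Pic X} (hL : HasCls L x) (F : X.Modules) (n i : ℕ) :
    W4c5asymptcohfn.hhatF k X n i F L = limsup (sq k F x n i) atTop := by
  refine congrArg (fun u => limsup u atTop) (funext fun m => ?_)
  obtain ⟨e⟩ := GrothLib.Snapper.tw_iso (F := F) (hL.tensorPow m)
  rw [sq, show hf k F (x ^ m) i = GrothLib.NefGrowth.hl k ((tF (CohB1.tensorPow L m)).obj F) i from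
    GrothLib.NefGrowth.hl_iso k e i]
  rfl

theorem pow_prod {r : ℕ} (z : Fin r → Pic X) (a : Fin r → ℤ) (m : ℕ) :
    (∏ j, z j ^ a j) ^ m = ∏ j, z j ^ ((m : ℤ) * a j) := by
  rw [← Finset.prod_pow]
  refine Finset.prod_congr rfl fun j _ => ?_
  rw [← zpow_natCast, ← zpow_mul, mul_comm]

theorem dimLT_support_of_dim {S : Set X} {n : ℕ} (hn : topologicalKrullDim X = n) :
    DimLT S (n + 1) :=
  GrothLib.Snapper.DimLT.mono (GrothLib.Snapper.dimLT_of_dim_le (S := (Set.univ : Set X))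
    (le_of_eq ((IsHomeomorph.topologicalKrullDim_eq _ (Homeomorph.Set.univ ↥X).isHomeomorph).trans hn)))
    (Set.subset_univ _)

theorem hasCls_inverse {L M : X.Modules} (hL : PicF.IsInvertible L) (h : ClSub.IsInverseOf L M) :
    PicF.IsInvertible M ∧ HasCls M (clsMod hL)⁻¹ := by
  obtain ⟨e⟩ := h
  obtain ⟨T, hT, ⟨eT⟩⟩ := GrothLib.Kodaira.exists_inverse hL
  obtain ⟨e1⟩ := GrothLib.GrowthBd.tensor_inverse (M := M) eT
  let e2 : M ≅ T := e1.symm ≪≫
    GrothLib.Ample.LineData.tensorModMapIso (GrothLib.GrTilde.tensorModComm M L ≪≫ e) (Iso.refl T) ≪≫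
    GrothLib.GrTilde.tensorModComm (Coh.structureModule X) T ≪≫ GrothLib.Euler.tFUnitIso T
  have hTz : HasCls T (clsMod hL)⁻¹ := by
    refine ⟨hT, eq_inv_of_mul_eq_one_left ?_⟩
    exact HasCls.eq ((hasCls_clsMod hT).tensor (hasCls_clsMod hL)) (hasCls_structureModule X) ⟨eT⟩
  have hM : PicF.IsInvertible M := GrothLib.ParaPair.isInvertible_of_iso e2 hT
  exact ⟨hM, hM, ((GrothLib.Cube.clsMod_eq_iff hM hT).2 ⟨e2⟩).trans hTz.choose_spec⟩

theorem hasCls_ztwist {r : ℕ} {L M : Fin r → X.Modules} (hL : ∀ j, PicF.IsInvertible (L j))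
    (hM : ∀ j, ClSub.IsInverseOf (L j) (M j)) (a : Fin r → ℤ) :
    HasCls (W4c5asymptcohfn.ztwist X L M a) (∏ j, clsMod (hL j) ^ a j) := by
  have hM' : ∀ j, PicF.IsInvertible (M j) := fun j => (hasCls_inverse (hL j) (hM j)).1
  obtain ⟨h1, e1⟩ := GrothLib.ArSurf29.cls_multiTwist hL (fun j => (a j).toNat)
  obtain ⟨h2, e2⟩ := GrothLib.ArSurf29.cls_multiTwist hM' (fun j => (-(a j)).toNat)
  have he : (∏ j, clsMod (hL j) ^ a j) =
      (∏ j, clsMod (hL j) ^ (a j).toNat) * ∏ j, clsMod (hM' j) ^ (-(a j)).toNat := by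
    rw [← Finset.prod_mul_distrib]
    refine Finset.prod_congr rfl fun j _ => ?_
    rw [show clsMod (hM' j) = (clsMod (hL j))⁻¹ from (hasCls_inverse (hL j) (hM j)).2.choose_spec,
      ← zpow_natCast, ← zpow_natCast, inv_zpow', ← zpow_add]
    congr 1
    omega
  rw [he]
  exact HasCls.tensor ⟨h1, e1⟩ ⟨h2, e2⟩

variable [IsProper (X ↘ Spec (CommRingCat.of k))]

include k in
theorem isCoh_structure : Coh.IsCoh (Coh.structureModule X) := by
  haveI := GrothLib.Euler.isNoetherian_of_proper (X := X) k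
  exact GrothLib.Euler.isCoh_of_isInvertible GrothLib.Euler.isInvertible_structure

variable {k} {H : X.Modules} (hH : CohB1.IsAmple H) {n : ℕ} {F : X.Modules} (hF : Coh.IsCoh F)
  (hd : DimLT (CohB1.support F) (n + 1))

theorem abs_sub_le_of_le {u v e : ℕ} (h1 : u ≤ v + e) (h2 : v ≤ u + e) : |(u : ℝ) - v| ≤ e := by
  rw [abs_sub_le_iff]
  have a1 : (u : ℝ) ≤ v + e := by exact_mod_cast h1
  have a2 : (v : ℝ) ≤ u + e := by exact_mod_cast h2
  constructor <;> linarith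

/-- `|a|₁`. -/
abbrev l1 {r : ℕ} (a : Fin r → ℤ) : ℝ := ∑ j, |(a j : ℝ)|

theorem natAbs_sum_cast {r : ℕ} (a : Fin r → ℤ) : ((∑ j, (a j).natAbs : ℕ) : ℝ) = l1 a := by
  simp [l1, Nat.cast_natAbs]

include hH hF hd in
theorem exists_sq_bound {r : ℕ} (z : Fin r → Pic X) :
    ∃ C : ℝ, 0 ≤ C ∧ ∀ (i : ℕ) (a : Fin r → ℤ), ∀ m : ℕ, 1 ≤ m →
      sq k F (∏ j, z j ^ a j) n i m ≤ C * (l1 a + 1 / m) ^ n := by
  obtain ⟨C, hC⟩ := GrothLib.GrowthBd.exists_bound_field k hH hF hd z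
  refine ⟨C * n.factorial, by positivity, fun i a m hm => ?_⟩
  have hm' : (0 : ℝ) < m := by exact_mod_cast hm
  have h1 : (hf k F ((∏ j, z j ^ a j) ^ m) i : ℝ) ≤ C * ((m : ℝ) * l1 a + 1) ^ n := by
    have h := hC i (fun j => (m : ℤ) * a j)
    rw [← pow_prod] at h
    have hw : (wt (fun j => (m : ℤ) * a j) : ℝ) = (m : ℝ) * l1 a + 1 := by
      simp [wt, Int.natAbs_mul, Finset.mul_sum, l1, Nat.cast_natAbs]
    rw [← hw]
    exact_mod_cast h
  rw [sq, div_le_iff₀ (by positivity)]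
  refine (mul_le_mul_of_nonneg_right h1 (Nat.cast_nonneg _)).trans (le_of_eq ?_)
  rw [mul_assoc (C * (n.factorial : ℝ)), ← mul_pow, add_mul, div_mul_cancel₀ _ hm'.ne', mul_comm (m : ℝ) (l1 a)]
  ring

include hH hF hd in
theorem sq_bounded (x : Pic X) (i : ℕ) : IsBoundedUnder (· ≤ ·) atTop (sq k F x n i) := by
  obtain ⟨C, hC0, hC⟩ := exists_sq_bound (k := k) hH hF hd (fun _ : Fin 1 => x)
  refine isBounded_of_le (c := C * 2 ^ n) (eventually_atTop.2 ⟨1, fun m hm => ?_⟩)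
  have := hC i (fun _ => 1) m hm
  simp only [zpow_one, Finset.univ_unique, Finset.prod_singleton] at this
  refine this.trans (mul_le_mul_of_nonneg_left (pow_le_pow_left₀ (by positivity) ?_ n) hC0)
  have : (1 : ℝ) / m ≤ 1 := by rw [div_le_one (by positivity)]; exact_mod_cast hm
  rw [one_div] at this
  simp [l1]
  linarith

include hH hF hd in
theorem exists_sq_lipschitz {r : ℕ} (z : Fin r → Pic X) (i : ℕ) :
    ∃ C : ℝ, 0 ≤ C ∧ (n = 0 → C = 0) ∧ ∀ (a b : Fin r → ℤ) (m : ℕ), 1 ≤ m →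
      |sq k F (∏ j, z j ^ a j) n i m - sq k F (∏ j, z j ^ b j) n i m| ≤
        C * l1 (a - b) * (l1 a + l1 b + 2) ^ (n - 1) := by
  obtain ⟨C, hC0, hC⟩ := exists_lipschitz k hH hF hd z i
  refine ⟨C * n.factorial, by positivity, fun h => by simp [hC0 h], fun a b m hm => ?_⟩
  rcases Nat.eq_zero_or_pos n with hn | hn
  · obtain ⟨h1, h2⟩ := hC (fun j => (m : ℤ) * a j) (fun j => (m : ℤ) * b j)
    simp only [hC0 hn, zero_mul, add_zero, ← pow_prod] at h1 h2
    simp [sq, le_antisymm h1 h2, hC0 hn]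
  have hm' : (0 : ℝ) < m := by exact_mod_cast hm
  obtain ⟨h1, h2⟩ := hC (fun j => (m : ℤ) * a j) (fun j => (m : ℤ) * b j)
  simp only [← pow_prod] at h1 h2
  have h3 := abs_sub_le_of_le h1 h2
  have hD : ((∑ j, ((m : ℤ) * b j - (m : ℤ) * a j).natAbs : ℕ) : ℝ) = m * l1 (a - b) := by
    simp [← mul_sub, Int.natAbs_mul, Finset.mul_sum, l1, Nat.cast_natAbs, abs_sub_comm]
  have hW : ((wt (fun j => (m : ℤ) * a j) + wt (fun j => (m : ℤ) * b j) : ℕ) : ℝ) ≤
      m * (l1 a + l1 b + 2) := by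
    have : (1 : ℝ) ≤ m := by exact_mod_cast hm
    simp [wt, Int.natAbs_mul, Finset.mul_sum, l1, Nat.cast_natAbs, mul_add]
    linarith
  rw [sq, sq, ← sub_div, ← sub_mul, abs_div, abs_mul, abs_of_nonneg (by positivity : (0 : ℝ) ≤ (n.factorial : ℝ)),
    abs_of_nonneg (by positivity : (0 : ℝ) ≤ (m : ℝ) ^ n), div_le_iff₀ (by positivity)]
  refine (mul_le_mul_of_nonneg_right h3 (Nat.cast_nonneg _)).trans ?_
  push_cast at hD ⊢
  rw [hD]
  push_cast at hW
  have hl1 : 0 ≤ l1 (a - b) := Finset.sum_nonneg fun j _ => abs_nonneg _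
  calc (C : ℝ) * (m * l1 (a - b)) * _ * n.factorial
      ≤ (C : ℝ) * (m * l1 (a - b)) * (m * (l1 a + l1 b + 2)) ^ (n - 1) * n.factorial := by
        gcongr
    _ = C * n.factorial * l1 (a - b) * (l1 a + l1 b + 2) ^ (n - 1) * ((m : ℝ) ^ (n - 1) * m) := by
        rw [mul_pow]; ring
    _ = _ := by rw [← pow_succ, Nat.sub_add_cancel hn]

end GrothLib.AsympCoh5
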