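import Groth.Agent.Lib.AsympCoh5.Rank
import Groth.Agent.Lib.Snapper.PushTop

/-!
# Dimension bounds through higher direct images
-/

set_option autoImplicit false
set_option linter.all false
set_option backward.isDefEq.respectTransparency false

universe u

open CategoryTheory CategoryTheory.Limits AlgebraicGeometry TopologicalSpace

noncomputable section

namespace GrothLib.AsympCoh5

open GrothLib.Cohom
open GrothLib.Snapper (FinPos gamma)

variable {X Y : Scheme.{u}} (k : Type u) [Field k] [X.Over (Spec (CommRingCat.of k))]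

/-- The dimension of cohomology. -/
abbrev fr (F : X.Modules) (q : ℕ) : ℕ := Module.finrank k (Coh.HH X F q)

variable [IsProper (X ↘ Spec (CommRingCat.of k))]

/-- One step: cycles in degree `n + 1` against cycles in degree `n`. -/
theorem step_bound (C : CochainComplex X.Modules ℕ) (hC : ∀ n q, Subsingleton (Coh.HH X (C.X n) (q + 1)))
    (hR : ∀ n, Coh.IsCoh (C.homology n)) (n : ℕ) (hK : FinPos k (C.cycles n)) :
    FinPos k (C.cycles (n + 1)) ∧
      (∀ q, fr k (C.cycles (n + 1)) (q + 1) ≤ fr k (C.cycles n) (q + 2) + fr k (C.homology (n + 1)) (q + 1) ∧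
        fr k (C.cycles n) (q + 2) ≤ fr k (C.cycles (n + 1)) (q + 1) + fr k (C.homology (n + 1)) q) ∧
      fr k (C.cycles n) 1 ≤ gamma k C (n + 1) ∧
      gamma k C (n + 1) ≤ fr k (C.cycles n) 1 + fr k (C.homology (n + 1)) 0 := by
  have hj : (ComplexShape.up ℕ).next n = n + 1 := by simp
  have hi : (ComplexShape.up ℕ).prev (n + 1) = n := by simp
  let π := C.homologyπ (n + 1)
  have hπ := C.homologyIsCokernel n (n + 1) hi
  haveI : Epi π := Cofork.IsColimit.epi hπ
  let p : C.X n ⟶ kernel π := kernel.lift π _ (C.toCycles_comp_homologyπ n (n + 1))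
  haveI : Epi p := (ShortComplex.exact_of_g_is_cokernel
    (ShortComplex.mk _ π (C.toCycles_comp_homologyπ n (n + 1))) hπ).epi_kernelLift
  have hd : p ≫ kernel.ι π ≫ C.iCycles (n + 1) = C.d n (n + 1) := by
    rw [kernel.lift_ι_assoc, HomologicalComplex.toCycles_i]
  have hip : C.iCycles n ≫ p = 0 := by
    rw [← cancel_mono (kernel.ι π ≫ C.iCycles (n + 1)), Category.assoc, zero_comp, hd, HomologicalComplex.iCycles_d]
  let Sa : ShortComplex X.Modules := ShortComplex.mk (C.iCycles n) p hip
  have hSa : Sa.ShortExact := by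
    haveI : Mono Sa.f := inferInstanceAs (Mono (C.iCycles n))
    haveI : Epi Sa.g := ‹Epi p›
    refine { exact := ShortComplex.exact_of_f_is_kernel _ ?_ }
    exact isKernelOfComp (kernel.ι π ≫ C.iCycles (n + 1)) (C.d n (n + 1)) (C.cyclesIsKernel n (n + 1) hj) hip hd
  let Sb : ShortComplex X.Modules := ShortComplex.mk (kernel.ι π) π (kernel.condition π)
  have hSb : Sb.ShortExact :=
    haveI : Epi Sb.g := ‹Epi π›
    haveI : Mono Sb.f := inferInstanceAs (Mono (kernel.ι π))
    { exact := ShortComplex.exact_of_f_is_kernel _ (kernelIsKernel _) }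
  obtain ⟨hB, -⟩ := GrothLib.Snapper.finPos_X₃ hSa (hC n) hK
  have hK' : FinPos k (C.cycles (n + 1)) := GrothLib.Snapper.finPos_X₂ hSb hB (hR (n + 1))
  have hQ : gamma k C (n + 1) =
      Module.finrank k (Coh.HH X (C.cycles n) 1) + Module.finrank k (LinearMap.range (hhMap k Sb.g 0)) := by
    rw [GrothLib.Snapper.gamma_succ]
    refine Eq.trans ?_ (GrothLib.Snapper.finrank_quotient_eq hSa hSb (hC n) hK (hR (n + 1)))
    rw [show p ≫ kernel.ι π = C.toCycles n (n + 1) from kernel.lift_ι _ _ _]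
  haveI := fun q => GrothLib.Euler.finiteDimensional_HH k (hR (n + 1)) q
  refine ⟨hK', fun q => ?_, ?_, ?_⟩
  · haveI := hB.1
    haveI := hK'.1
    have e : fr k Sb.X₁ (q + 1) = fr k (C.cycles n) (q + 2) :=
      (LinearEquiv.ofBijective _ (GrothLib.Snapper.bijective_delta hSa (hC n) q)).finrank_eq
    haveI : FiniteDimensional k (Coh.HH X Sb.X₁ (q + 1)) := hB.1 q
    haveI : FiniteDimensional k (Coh.HH X Sb.X₂ (q + 1)) := hK'.1 q
    haveI : FiniteDimensional k (Coh.HH X Sb.X₃ (q + 1)) := GrothLib.Euler.finiteDimensional_HH k (hR (n + 1)) _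
    haveI : FiniteDimensional k (Coh.HH X Sb.X₃ q) := GrothLib.Euler.finiteDimensional_HH k (hR (n + 1)) _
    rw [← e]
    refine ⟨GrothLib.Snapper.exact_finrank_le k (Cohom.exact₂ hSb (q + 1)), ?_⟩
    exact (GrothLib.Snapper.exact_finrank_le k (Cohom.exact₁ hSb q)).trans (le_of_eq (Nat.add_comm _ _))
  · rw [hQ]
    exact Nat.le_add_right _ _
  · rw [hQ]
    exact Nat.add_le_add_left (Submodule.finrank_le _) _

/-- The error term. -/
def err (R : ℕ → X.Modules) (n : ℕ) : ℕ :=
  ∑ i ∈ Finset.Icc 1 (n + 1), ∑ j ∈ Finset.range (n + 2), fr k (R i) j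

theorem cycles_bound (C : CochainComplex X.Modules ℕ) (hC : ∀ n q, Subsingleton (Coh.HH X (C.X n) (q + 1)))
    (hR : ∀ n, Coh.IsCoh (C.homology n)) : ∀ m : ℕ, FinPos k (C.cycles m) ∧ ∀ q,
      fr k (C.cycles m) (q + 1) ≤ fr k (C.homology 0) (q + 1 + m) +
          ∑ i ∈ Finset.Icc 1 m, (fr k (C.homology i) (q + 1 + (m - i)) + fr k (C.homology i) (q + (m - i))) ∧
      fr k (C.homology 0) (q + 1 + m) ≤ fr k (C.cycles m) (q + 1) +
          ∑ i ∈ Finset.Icc 1 m, (fr k (C.homology i) (q + 1 + (m - i)) + fr k (C.homology i) (q + (m - i))) := by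
  intro m
  induction m with
  | zero =>
    refine ⟨(GrothLib.Snapper.finPos_of_isCoh (hR 0)).of_iso C.isoHomologyπ₀.symm, fun q => ?_⟩
    have e : fr k (C.cycles 0) (q + 1) = fr k (C.homology 0) (q + 1) :=
      (GrothLib.Euler.hhEquiv (A := k) (CochainComplex.isoHomologyπ₀ C) (q + 1)).finrank_eq
    simp [e]
  | succ m ih =>
    obtain ⟨hF, ih⟩ := ih
    obtain ⟨hF', hq, -, -⟩ := step_bound k C hC hR m hF
    refine ⟨hF', fun q => ?_⟩
    obtain ⟨a1, a2⟩ := hq q
    obtain ⟨b1, b2⟩ := ih (q + 1)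
    have hs : ∀ i ∈ Finset.Icc 1 m, fr k (C.homology i) (q + 1 + 1 + (m - i)) + fr k (C.homology i) (q + 1 + (m - i)) =
        fr k (C.homology i) (q + 1 + (m + 1 - i)) + fr k (C.homology i) (q + (m + 1 - i)) := fun i hi => by
      have := (Finset.mem_Icc.1 hi).2
      rw [show q + 1 + 1 + (m - i) = q + 1 + (m + 1 - i) by omega, show q + 1 + (m - i) = q + (m + 1 - i) by omega]
    rw [show q + 1 + 1 = q + 2 from rfl] at b1 b2
    rw [Finset.sum_Icc_succ_top (Nat.le_add_left 1 m), ← Finset.sum_congr rfl hs, Nat.sub_self,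
      show q + 1 + (m + 1) = q + 2 + m by omega, show q + 1 + 1 = q + 2 from rfl]
    simp only [Nat.add_zero]
    constructor <;> omega

theorem gamma_bound (C : CochainComplex X.Modules ℕ) (hC : ∀ n q, Subsingleton (Coh.HH X (C.X n) (q + 1)))
    (hR : ∀ n, Coh.IsCoh (C.homology n)) (n : ℕ) :
    gamma k C n ≤ fr k (C.homology 0) n + 3 * err k (fun i => C.homology i) n ∧
      fr k (C.homology 0) n ≤ gamma k C n + 3 * err k (fun i => C.homology i) n := by
  cases n with
  | zero =>
    have e : gamma k C 0 = fr k (C.homology 0) 0 := (GrothLib.Snapper.gamma_zero C).trans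
      (GrothLib.Euler.hhEquiv (A := k) (CochainComplex.isoHomologyπ₀ C) 0).finrank_eq
    omega
  | succ m =>
    obtain ⟨hF, hq⟩ := cycles_bound k C hC hR m
    obtain ⟨-, -, g1, g2⟩ := step_bound k C hC hR m hF
    obtain ⟨b1, b2⟩ := hq 0
    rw [show 0 + 1 + m = m + 1 by omega, show (0 : ℕ) + 1 = 1 from rfl] at b1 b2
    have h1 : fr k (C.homology (m + 1)) 0 ≤ err k (fun i => C.homology i) (m + 1) :=
      (Finset.single_le_sum (f := fun j => fr k (C.homology (m + 1)) j) (fun j _ => Nat.zero_le _)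
        (Finset.mem_range.2 (by omega))).trans
        (Finset.single_le_sum (f := fun i => ∑ j ∈ Finset.range (m + 1 + 2), fr k (C.homology i) j)
          (fun i _ => Nat.zero_le _) (Finset.mem_Icc.2 ⟨by omega, by omega⟩))
    have h2 : ∑ i ∈ Finset.Icc 1 m, (fr k (C.homology i) (1 + (m - i)) + fr k (C.homology i) (0 + (m - i))) ≤
        2 * err k (fun i => C.homology i) (m + 1) := by
      rw [err, Finset.mul_sum]
      refine le_trans (Finset.sum_le_sum fun i hi => ?_)
        (Finset.sum_le_sum_of_subset (Finset.Icc_subset_Icc le_rfl (by omega)))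
      have hi' := (Finset.mem_Icc.1 hi).1
      have l1 := Finset.single_le_sum (f := fun j => fr k (C.homology i) j) (fun j _ => Nat.zero_le _)
        (Finset.mem_range.2 (show 1 + (m - i) < m + 1 + 2 by omega))
      have l2 := Finset.single_le_sum (f := fun j => fr k (C.homology i) j) (fun j _ => Nat.zero_le _)
        (Finset.mem_range.2 (show 0 + (m - i) < m + 1 + 2 by omega))
      omega
    constructor <;> omega

variable [Y.Over (Spec (CommRingCat.of k))] [IsProper (Y ↘ Spec (CommRingCat.of k))] {f : Y ⟶ X}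

/-- `h^n(Y, G)` is `h^n(X, f_* G)` up to the cohomology of the higher direct images. -/
theorem fr_leray_bound (hf : f ≫ X ↘ Spec (CommRingCat.of k) = Y ↘ Spec (CommRingCat.of k))
    [HasInjectiveResolutions Y.Modules] (G : Y.Modules) (hG : Coh.IsCoh G) (n : ℕ) :
    fr k G n ≤ fr k ((Coh.Rpush f 0).obj G) n + 3 * err k (fun i => (Coh.Rpush f i).obj G) n ∧
      fr k ((Coh.Rpush f 0).obj G) n ≤ fr k G n + 3 * err k (fun i => (Coh.Rpush f i).obj G) n := by
  haveI := GrothLib.Euler.isNoetherian_of_proper (X := X) k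
  haveI : IsProper (f ≫ X ↘ Spec (CommRingCat.of k)) := by rw [hf]; infer_instance
  haveI : IsProper f := IsProper.of_comp f (X ↘ Spec (CommRingCat.of k))
  haveI := hG.1
  let P := injectiveResolution G
  let C := ((Scheme.Modules.pushforward f).mapHomologicalComplex (ComplexShape.up ℕ)).obj P.cocomplex
  have eR : ∀ i, (Coh.Rpush f i).obj G ≅ C.homology i := fun i =>
    P.isoRightDerivedObj (Scheme.Modules.pushforward f) i
  have hC : ∀ n q, Subsingleton (Coh.HH X (C.X n) (q + 1)) := fun n q =>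
    GrothLib.Snapper.subsingleton_HH_push_injective f _ q
  have hR : ∀ n, Coh.IsCoh (C.homology n) := fun n =>
    GrothLib.QCoh.isCoh_of_iso (eR n) (Cohom.isCoh_Rpush f G hG n)
  have e : ∀ i j, fr k (C.homology i) j = fr k ((Coh.Rpush f i).obj G) j := fun i j =>
    (GrothLib.Euler.hhEquiv (A := k) (eR i) j).finrank_eq.symm
  have hg : gamma k C n = fr k G n :=
    (GrothLib.Snapper.gamma_push hf P.cocomplex n).trans (GrothLib.Snapper.gamma_resolution k P hG n)
  have := gamma_bound k C hC hR n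
  simpa only [hg, e, err] using this

end GrothLib.AsympCoh5
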