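import Groth.Agent.Lib.AsympCoh5.Hhat
import Mathlib.Analysis.Normed.Group.Constructions

/-!
# Continuity and homogeneity of the asymptotic cohomological functions
-/

set_option autoImplicit false
set_option linter.all false
set_option backward.isDefEq.respectTransparency false

universe u

open CategoryTheory CategoryTheory.Limits AlgebraicGeometry TopologicalSpace Filter Topology

noncomputable section

namespace GrothLib.AsympCoh5

open GrothLib.Snapper (DimLT tw hf)
open GrothLib.Cube (Pic clsMod HasCls hasCls_clsMod)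

variable {X : Scheme.{u}} {k : Type u} [Field k] [X.Over (Spec (CommRingCat.of k))]
  [IsProper (X ↘ Spec (CommRingCat.of k))]
  {H : X.Modules} (hH : CohB1.IsAmple H) {n : ℕ} {F : X.Modules} (hF : Coh.IsCoh F)
  (hd : DimLT (CohB1.support F) (n + 1))

theorem l1_le_norm {r : ℕ} (a : Fin r → ℤ) : l1 a ≤ r * ‖(fun j => ((a j : ℤ) : ℝ))‖ := by
  refine (Finset.sum_le_sum (g := fun _ => ‖(fun j => ((a j : ℤ) : ℝ))‖) fun j _ => ?_).trans (by simp)
  exact norm_le_pi_norm (fun j => ((a j : ℤ) : ℝ)) j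

theorem one_le_norm {r : ℕ} {a : Fin r → ℤ} (h : a ≠ 0) : 1 ≤ ‖(fun j => ((a j : ℤ) : ℝ))‖ := by
  obtain ⟨j, hj⟩ := Function.ne_iff.1 h
  have h1 : (1 : ℝ) ≤ |(a j : ℝ)| := by exact_mod_cast Int.one_le_abs (show a j ≠ 0 from hj)
  exact h1.trans (norm_le_pi_norm (fun j => ((a j : ℤ) : ℝ)) j)

include hH hF hd in
theorem abs_limsup_sub_le_l1 {r : ℕ} (z : Fin r → Pic X) (i : ℕ) :
    ∃ C : ℝ, 0 ≤ C ∧ (n = 0 → C = 0) ∧ ∀ (a b : Fin r → ℤ),
      |limsup (sq k F (∏ j, z j ^ a j) n i) atTop - limsup (sq k F (∏ j, z j ^ b j) n i) atTop| ≤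
        C * l1 (a - b) * (l1 a + l1 b + 2) ^ (n - 1) := by
  obtain ⟨C, hC0, hC1, hC⟩ := exists_sq_lipschitz (k := k) hH hF hd z i
  exact ⟨C, hC0, hC1, fun a b => abs_limsup_sub_le (sq_nonneg k _ _ _ _) (sq_nonneg k _ _ _ _)
    (sq_bounded hH hF hd _ i) (sq_bounded hH hF hd _ i) (eventually_atTop.2 ⟨1, fun m hm => hC a b m hm⟩)⟩

include hH hF hd in
/-- The Lipschitz estimate in the sup norm. -/
theorem exists_norm_lipschitz {r : ℕ} (z : Fin r → Pic X) (i : ℕ) :
    ∃ C : ℝ, ∀ a b : Fin r → ℤ,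
      |limsup (sq k F (∏ j, z j ^ a j) n i) atTop - limsup (sq k F (∏ j, z j ^ b j) n i) atTop| ≤
        C * (Finset.Icc 1 n).sum (fun q =>
          (max ‖(fun j => ((a j : ℤ) : ℝ))‖ ‖(fun j => ((b j : ℤ) : ℝ))‖) ^ (n - q) *
            ‖(fun j => ((a j - b j : ℤ) : ℝ))‖ ^ q) := by
  obtain ⟨C, hC0, hC1, hC⟩ := abs_limsup_sub_le_l1 (k := k) hH hF hd z i
  refine ⟨C * r * (2 * r + 2) ^ (n - 1), fun a b => ?_⟩
  set M := max ‖(fun j => ((a j : ℤ) : ℝ))‖ ‖(fun j => ((b j : ℤ) : ℝ))‖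
  set D := ‖(fun j => ((a j - b j : ℤ) : ℝ))‖
  have hM : 0 ≤ M := le_max_of_le_left (norm_nonneg _)
  have hD : 0 ≤ D := norm_nonneg _
  rcases eq_or_ne a b with rfl | hab
  · rw [sub_self, abs_zero]
    positivity
  rcases Nat.eq_zero_or_pos n with hn | hn
  · have := hC a b
    rw [hC1 hn, zero_mul, zero_mul] at this
    simpa [hn] using this
  have hM1 : 1 ≤ M := by
    by_cases ha : a = 0
    · exact (one_le_norm (show b ≠ 0 from fun hb => hab (ha.trans hb.symm))).trans (le_max_right _ _)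
    · exact (one_le_norm ha).trans (le_max_left _ _)
  have h1 : l1 (a - b) ≤ r * D := l1_le_norm (a - b)
  have h2 : l1 a + l1 b + 2 ≤ (2 * r + 2) * M := by
    have ha := (l1_le_norm a).trans (mul_le_mul_of_nonneg_left (le_max_left _ _ : _ ≤ M) (Nat.cast_nonneg r))
    have hb := (l1_le_norm b).trans (mul_le_mul_of_nonneg_left (le_max_right _ _ : _ ≤ M) (Nat.cast_nonneg r))
    rw [add_mul]
    linarith
  have hl : 0 ≤ l1 (a - b) := Finset.sum_nonneg fun j _ => abs_nonneg _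
  have hl' : 0 ≤ l1 a + l1 b + 2 := by
    have : 0 ≤ l1 a := Finset.sum_nonneg fun j _ => abs_nonneg _
    have : 0 ≤ l1 b := Finset.sum_nonneg fun j _ => abs_nonneg _
    linarith
  refine (hC a b).trans ?_
  calc C * l1 (a - b) * (l1 a + l1 b + 2) ^ (n - 1)
      ≤ C * (r * D) * ((2 * r + 2) * M) ^ (n - 1) := by gcongr
    _ = C * r * (2 * r + 2) ^ (n - 1) * (M ^ (n - 1) * D ^ 1) := by rw [mul_pow, pow_one]; ring
    _ ≤ _ := by
      refine mul_le_mul_of_nonneg_left ?_ (by positivity)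
      exact Finset.single_le_sum (f := fun q => M ^ (n - q) * D ^ q) (fun q _ => by positivity)
        (Finset.mem_Icc.2 ⟨le_rfl, hn⟩)

include hH hF hd in
/-- The bound by the power of the norm. -/
theorem exists_norm_bound {r : ℕ} (z : Fin r → Pic X) (i : ℕ) :
    ∃ C : ℝ, ∀ a : Fin r → ℤ,
      limsup (sq k F (∏ j, z j ^ a j) n i) atTop ≤ C * ‖(fun j => ((a j : ℤ) : ℝ))‖ ^ n := by
  obtain ⟨C, hC0, hC⟩ := exists_sq_bound (k := k) hH hF hd z
  refine ⟨C * ((r : ℝ) + 1) ^ n, fun a => ?_⟩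
  set N := ‖(fun j => ((a j : ℤ) : ℝ))‖
  have hcob : ∀ x : Pic X, IsCoboundedUnder (· ≤ ·) atTop (sq k F x n i) := fun x =>
    isCoboundedUnder_le_of_le atTop (sq_nonneg k F x n i)
  rcases eq_or_ne a 0 with rfl | ha
  · rcases Nat.eq_zero_or_pos n with hn | hn
    · refine limsup_le_of_le (hcob _) (eventually_atTop.2 ⟨1, fun m hm => (hC i _ m hm).trans ?_⟩)
      simp [hn]
    · have hN : N = 0 := by
        show ‖(fun j : Fin r => (((0 : Fin r → ℤ) j : ℤ) : ℝ))‖ = 0
        simp [← Pi.zero_def]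
      rw [hN, zero_pow hn.ne', mul_zero]
      refine le_of_forall_pos_le_add fun ε hε => ?_
      rw [zero_add]
      refine limsup_le_of_le (hcob _) ?_
      have ht : Tendsto (fun m : ℕ => C * (l1 (0 : Fin r → ℤ) + 1 / m) ^ n) atTop (𝓝 0) := by
        have h1 : Tendsto (fun m : ℕ => l1 (0 : Fin r → ℤ) + 1 / (m : ℝ)) atTop (𝓝 0) := by
          simpa [l1] using tendsto_const_div_natCast 1
        simpa [zero_pow hn.ne'] using (h1.pow n).const_mul C
      filter_upwards [ht.eventually (eventually_le_nhds hε), eventually_ge_atTop 1] with m h1 h2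
      exact (hC i 0 m h2).trans h1
  · refine limsup_le_of_le (hcob _) (eventually_atTop.2 ⟨1, fun m hm => (hC i a m hm).trans ?_⟩)
    have h0 : 0 ≤ l1 a := Finset.sum_nonneg fun j _ => abs_nonneg _
    rw [mul_assoc, ← mul_pow]
    refine mul_le_mul_of_nonneg_left (pow_le_pow_left₀ (by positivity) ?_ n) hC0
    have h1 : (1 : ℝ) / m ≤ N := by
      refine le_trans ?_ (one_le_norm ha)
      rw [div_le_one (by positivity)]
      exact_mod_cast hm
    rw [add_mul, one_mul]
    exact add_le_add (l1_le_norm a) h1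

include hH hF hd in
/-- Twisting by a fixed class does not matter in the limit along multiples. -/
theorem tendsto_sub_div_pow (x y : Pic X) (i : ℕ) :
    Tendsto (fun p : ℕ => (limsup (sq k F (x ^ p * y) n i) atTop - limsup (sq k F (x ^ p) n i) atTop) / (p : ℝ) ^ n)
      atTop (𝓝 0) := by
  obtain ⟨C, hC0, hC1, hC⟩ := abs_limsup_sub_le_l1 (k := k) hH hF hd ![x, y] i
  have hb : ∀ p : ℕ, 1 ≤ p →
      |(limsup (sq k F (x ^ p * y) n i) atTop - limsup (sq k F (x ^ p) n i) atTop) / (p : ℝ) ^ n| ≤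
        C * 5 ^ (n - 1) / (p : ℝ) := by
    intro p hp
    have := hC ![(p : ℤ), 1] ![(p : ℤ), 0]
    simp only [Fin.prod_univ_two, Matrix.cons_val_zero, Matrix.cons_val_one, zpow_natCast, zpow_one, zpow_zero,
      mul_one] at this
    have hp' : (1 : ℝ) ≤ p := by exact_mod_cast hp
    rw [abs_div, abs_of_nonneg (by positivity : (0 : ℝ) ≤ (p : ℝ) ^ n)]
    rcases Nat.eq_zero_or_pos n with hn | hn
    · rw [hC1 hn, zero_mul, zero_mul] at this
      simpa [hn, hC1 hn] using this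
    rw [div_le_iff₀ (by positivity)]
    refine this.trans ?_
    have e1 : l1 (![(p : ℤ), 1] - ![(p : ℤ), 0]) = 1 := by simp [l1]
    have e2 : l1 ![(p : ℤ), 1] + l1 ![(p : ℤ), 0] + 2 ≤ 5 * p := by
      simp [l1]
      linarith
    have e3 : 0 ≤ l1 ![(p : ℤ), 1] + l1 ![(p : ℤ), 0] + 2 := by
      simp [l1]
      linarith
    rw [e1, mul_one]
    calc C * (l1 ![(p : ℤ), 1] + l1 ![(p : ℤ), 0] + 2) ^ (n - 1) ≤ C * (5 * p) ^ (n - 1) := by gcongr
      _ = C * 5 ^ (n - 1) / p * ((p : ℝ) ^ (n - 1) * p) := by field_simp; ring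
      _ = _ := by rw [← pow_succ, Nat.sub_add_cancel hn]
  exact squeeze_zero_norm' (eventually_atTop.2 ⟨1, fun p hp => by rw [Real.norm_eq_abs]; exact hb p hp⟩)
    (tendsto_const_div_natCast _)

include hH hF hd in
/-- Homogeneity. -/
theorem limsup_pow (x : Pic X) {a : ℕ} (ha : 1 ≤ a) (i : ℕ) :
    limsup (sq k F (x ^ a) n i) atTop = (a : ℝ) ^ n * limsup (sq k F x n i) atTop := by
  have ha' : (0 : ℝ) < a := by exact_mod_cast ha
  obtain ⟨C, hC1, hC⟩ := exists_lipschitz k hH hF hd (fun _ : Fin 1 => x) i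
  let v : ℕ → ℝ := sq k F x n i
  let w : ℕ → ℝ := fun j => v (a * j)
  have h1 : sq k F (x ^ a) n i = fun j => (a : ℝ) ^ n * w j := funext fun j => by
    simp only [w, v, sq, ← pow_mul]
    rcases Nat.eq_zero_or_pos n with hn | hn
    · subst hn; simp
    rcases Nat.eq_zero_or_pos j with hj | hj
    · subst hj; simp [zero_pow hn.ne']
    push_cast
    rw [mul_pow]
    field_simp
  have hv := sq_bounded (k := k) hH hF hd x i
  have hwbd : IsBoundedUnder (· ≤ ·) atTop w := by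
    obtain ⟨c, hc⟩ := hv
    rw [eventually_map] at hc
    refine isBounded_of_le (c := c) ?_
    exact (tendsto_atTop_mono (fun j => Nat.le_mul_of_pos_left j ha) tendsto_id : Tendsto (fun j => a * j) atTop atTop).eventually hc
  have h2 : limsup (fun j => (a : ℝ) ^ n * w j) atTop = (a : ℝ) ^ n * limsup w atTop :=
    ((monotone_mul_left_of_nonneg (by positivity : (0 : ℝ) ≤ (a : ℝ) ^ n)).map_limsup_of_continuousAt
      (F := atTop) w (continuous_const.mul continuous_id).continuousAt hwbd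
      (isCoboundedUnder_le_of_le atTop fun j => sq_nonneg k F x n i _)).symm
  rw [h1, h2]
  congr 1
  rw [← limsup_comp_div (v := w) ha]
  obtain ⟨B, hB⟩ : ∃ B : ℝ, ∀ᶠ m in atTop, v m ≤ B := hv
  have hdiv : Tendsto (fun m : ℕ => m / a) atTop atTop :=
    (Filter.map_div_atTop_eq_nat a ha).le
  have hwd : IsBoundedUnder (· ≤ ·) atTop fun m => w (m / a) := by
    obtain ⟨c, hc⟩ := hwbd
    rw [eventually_map] at hc
    exact isBounded_of_le (hdiv.eventually hc)
  have hBE : IsBoundedUnder (· ≤ ·) atTop v := isBounded_of_le hB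
  let e : ℕ → ℝ := fun m =>
    |((a * (m / a) : ℕ) : ℝ) ^ n / (m : ℝ) ^ n - 1| * (B + 1) +
      (C : ℝ) * n.factorial * a * 4 ^ (n - 1) / (m : ℝ)
  have hratio : Tendsto (fun m : ℕ => ((a * (m / a) : ℕ) : ℝ) / (m : ℝ)) atTop (𝓝 1) := by
    have hlow : Tendsto (fun m : ℕ => 1 - (a : ℝ) / (m : ℝ)) atTop (𝓝 1) := by
      simpa using (tendsto_const_div_natCast (a : ℝ)).const_sub 1
    refine tendsto_of_tendsto_of_tendsto_of_le_of_le' hlow tendsto_const_nhds ?_ ?_
    · filter_upwards [eventually_ge_atTop 1] with m hm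
      have hm' : (0 : ℝ) < m := by exact_mod_cast hm
      rw [le_div_iff₀ hm', sub_mul, div_mul_cancel₀ _ hm'.ne', one_mul]
      have := Nat.lt_mul_div_succ m ha
      have h' : (m : ℝ) ≤ ((a * (m / a) : ℕ) : ℝ) + a := by
        exact_mod_cast (show m ≤ a * (m / a) + a by rw [mul_add, mul_one] at this; omega)
      linarith
    · filter_upwards [eventually_ge_atTop 1] with m hm
      rw [div_le_one (by exact_mod_cast hm)]
      exact_mod_cast Nat.mul_div_le m a
  have he : Tendsto e atTop (𝓝 0) := by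
    have h3 : Tendsto (fun m : ℕ => ((a * (m / a) : ℕ) : ℝ) ^ n / (m : ℝ) ^ n) atTop (𝓝 1) := by
      simpa [div_pow] using hratio.pow n
    have h4 := ((h3.sub_const 1).abs.mul_const (B + 1)).add
      (tendsto_const_div_natCast ((C : ℝ) * n.factorial * a * 4 ^ (n - 1)))
    simpa [e] using h4
  refine (limsup_eq_of_tendsto (fun m => sq_nonneg k _ _ _ _ _) (fun m => sq_nonneg k _ _ _ _ _) hwd hBE he ?_)
  filter_upwards [eventually_ge_atTop a, hdiv.eventually ((tendsto_atTop_mono (fun j => Nat.le_mul_of_pos_left j ha)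
    tendsto_id : Tendsto (fun j => a * j) atTop atTop).eventually hB)] with m hma hwB
  set q := a * (m / a)
  have hm0 : 0 < m := lt_of_lt_of_le ha hma
  have hm' : (0 : ℝ) < m := by exact_mod_cast hm0
  have hqm : q ≤ m := Nat.mul_div_le m a
  have hmq : m < q + a := by
    have := Nat.lt_mul_div_succ m ha
    rw [mul_add, mul_one] at this
    exact this
  obtain ⟨l1', l2'⟩ := hC (fun _ => (q : ℤ)) (fun _ => (m : ℤ))
  simp only [Finset.univ_unique, Finset.prod_singleton, Finset.sum_singleton, zpow_natCast, GrothLib.GrowthBd.wt] at l1' l2'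
  have h5 := abs_sub_le_of_le l1' l2'
  have hbound : |(hf k F (x ^ q) i : ℝ) - hf k F (x ^ m) i| ≤ (C : ℝ) * a * (4 * m) ^ (n - 1) := by
    refine h5.trans ?_
    have e1 : (((m : ℤ) - (q : ℤ)).natAbs) ≤ a := by omega
    have e2 : ((q : ℤ).natAbs + 1 + ((m : ℤ).natAbs + 1)) ≤ 4 * m := by omega
    exact_mod_cast Nat.mul_le_mul (Nat.mul_le_mul_left C e1) (Nat.pow_le_pow_left e2 _)
  have hq0 : (0 : ℝ) < q := by
    have : 0 < q := Nat.mul_pos ha (Nat.div_pos hma ha)
    exact_mod_cast this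
  show |v q - v m| ≤ e m
  have hsplit : v q - v m = (v q - v q * ((q : ℝ) ^ n / (m : ℝ) ^ n)) +
      ((hf k F (x ^ q) i : ℝ) - hf k F (x ^ m) i) * n.factorial / (m : ℝ) ^ n := by
    simp only [v, sq]
    field_simp
    ring
  rw [hsplit]
  refine (abs_add_le _ _).trans (add_le_add ?_ ?_)
  · rw [← mul_one_sub, abs_mul, abs_of_nonneg (sq_nonneg k F x n i q), abs_sub_comm, mul_comm]
    refine mul_le_mul_of_nonneg_left ?_ (abs_nonneg _)
    linarith [hwB]
  · rcases Nat.eq_zero_or_pos n with hn | hn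
    · have hz : |(hf k F (x ^ q) i : ℝ) - hf k F (x ^ m) i| = 0 := by
        refine le_antisymm (hbound.trans ?_) (abs_nonneg _)
        simp [hC1 hn]
      rw [abs_div, abs_mul, hz]
      simp [hC1 hn]
    rw [abs_div, abs_mul, abs_of_nonneg (by positivity : (0 : ℝ) ≤ (n.factorial : ℝ)),
      abs_of_nonneg (by positivity : (0 : ℝ) ≤ (m : ℝ) ^ n), div_le_iff₀ (by positivity)]
    refine (mul_le_mul_of_nonneg_right hbound (Nat.cast_nonneg _)).trans (le_of_eq ?_)
    rw [mul_pow]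
    calc (C : ℝ) * a * (4 ^ (n - 1) * (m : ℝ) ^ (n - 1)) * n.factorial
        = C * n.factorial * a * 4 ^ (n - 1) / m * ((m : ℝ) ^ (n - 1) * m) := by field_simp
      _ = _ := by rw [← pow_succ, Nat.sub_add_cancel hn]

end GrothLib.AsympCoh5
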