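import Groth.Agent.Lib.NumReg26.Main
import Groth.Agent.Lib.DecSh20.Embed
import Groth.Agent.Lib.Kodaira.Volume
import Groth.Agent.Lib.AsympCoh5.Growth
import Groth.Agent.Lib.NefGrowth.Growth

/-!
# Sections of numerically trivial twists
-/

set_option autoImplicit false
set_option linter.all false
set_option backward.isDefEq.respectTransparency false

universe u

open CategoryTheory CategoryTheory.Limits AlgebraicGeometry TopologicalSpace Filter
open scoped ENNReal

noncomputable section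

namespace GrothLib.AsympCoh5

open GrothLib.Snapper (DimLT tw hf)
open GrothLib.Cube (Pic clsMod HasCls hasCls_clsMod)
open GrothLib.NumReg26 (NumCls Good cl)
open GrothLib.Kodaira (PLe h0)

variable {X : Scheme.{u}} [AlgebraicGeometry.IsIntegral X] (k : Type u) [Field k] [X.Over (Spec (CommRingCat.of k))]
  [IsProper (X ↘ Spec (CommRingCat.of k))]

theorem hl_eq_hf_structure {L : X.Modules} {x : Pic X} (hL : HasCls L x) (i : ℕ) :
    GrothLib.NefGrowth.hl k L i = hf k (Coh.structureModule X) x i := by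
  obtain ⟨e⟩ := GrothLib.Snapper.tw_iso (F := Coh.structureModule X) hL
  exact GrothLib.NefGrowth.hl_iso k (((GrothLib.Euler.tFUnitIso L).symm ≪≫
    (GrothLib.GrTilde.tensorModComm L (Coh.structureModule X)) ≪≫ e.symm)) i

theorem one_pLe_of_hf_pos {x : Pic X} (h : 0 < hf k (Coh.structureModule X) x 0) : PLe 1 x := by
  refine GrothLib.NefGrowth.pLe_of_h0_pos k ?_
  rwa [GrothLib.NefGrowth.hc,
    hl_eq_hf_structure k (show HasCls (GrothLib.HodgeIndex.rep x) x from
      ⟨GrothLib.HodgeIndex.isInv_rep x, GrothLib.HodgeIndex.cls_rep x⟩)]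

/-- Sections of numerically trivial twists of large powers of an ample class. -/
theorem exists_numTriv_sections {A : X.Modules} (hA : CohB1.IsAmple A) :
    ∃ m₀ : ℕ, ∀ m, m₀ ≤ m → ∀ z : Pic X, NumCls k z →
      hf k (Coh.structureModule X) (z * clsMod hA.1 ^ m) 0 = hf k (Coh.structureModule X) (clsMod hA.1 ^ m) 0 ∧
        0 < hf k (Coh.structureModule X) (clsMod hA.1 ^ m) 0 := by
  haveI := GrothLib.Euler.isNoetherian_of_proper (X := X) k
  set a := clsMod hA.1 with ha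
  obtain ⟨r, N, ι, hr, hι, hιk, ⟨e⟩⟩ := GrothLib.DecSh20.exists_embedding k hA
  haveI := hι
  have hcl : cl ι = a ^ r := by
    have h1 := GrothLib.NumReg26.hasCls_cl ι 1
    rw [zpow_one] at h1
    exact (HasCls.eq ((hasCls_clsMod hA.1).tensorPow r) h1 ⟨e⟩).symm
  have hO : Coh.IsCoh (Coh.structureModule X) := GrothLib.Euler.isCoh_of_isInvertible GrothLib.Euler.isInvertible_structure
  have hgood : ∀ s : ℕ, Good ι (tw (Coh.structureModule X) (a ^ s)) := fun s =>
    GrothLib.NumReg26.good_of_isCoh ι hιk (GrothLib.Snapper.isCoh_tw k hO _)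
  choose m hm using fun s => (hgood s).reg
  let T : ℕ := (Finset.range r).sup (fun s => (m s).toNat)
  obtain ⟨j₁, hj₁⟩ := GrothLib.Kodaira.exists_pLe_pow hA (1 : Pic X)
  refine ⟨r * (T + 1) + j₁, fun n hn z hz => ?_⟩
  have hpos : 0 < hf k (Coh.structureModule X) (a ^ n) 0 := by
    have hOc := hasCls_clsMod (GrothLib.Euler.isInvertible_structure (X := X))
    obtain ⟨f, hf'⟩ := (GrothLib.Kodaira.pLe_iff (GrothLib.Euler.isInvertible_structure (X := X))
      (GrothLib.Ample.isInvertible_tensorPow hA.1 n)).1 (by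
        rw [GrothLib.Cube.clsMod_tensorPow hA.1,
          (GrothLib.Cube.clsMod_eq_one_iff (GrothLib.Euler.isInvertible_structure (X := X))).2 ⟨Iso.refl _⟩]
        exact hj₁ n (by omega))
    rw [← hl_eq_hf_structure k ((hasCls_clsMod hA.1).tensorPow n) 0]
    show 0 < Module.finrank k (Coh.HH X (CohB1.tensorPow A n) 0)
    have hc : Coh.IsCoh (CohB1.tensorPow A n) :=
      GrothLib.Euler.isCoh_of_isInvertible (GrothLib.Ample.isInvertible_tensorPow hA.1 n)
    haveI := GrothLib.Euler.finiteDimensional_HH k hc 0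
    refine Module.finrank_pos_iff.2 ?_
    haveI : Nontrivial Γ(CohB1.tensorPow A n, ⊤) := by
      refine nontrivial_of_ne ((f.app ⊤) (1 : Γ(X, ⊤))) 0 fun h => ?_
      haveI := hf'
      have h1 : (f.app ⊤) (1 : Γ(X, ⊤)) = (f.app ⊤) 0 := h.trans (map_zero _).symm
      haveI : Nonempty (⊤ : X.Opens) := ⟨⟨genericPoint X, trivial⟩⟩
      exact one_ne_zero (α := Γ(X, ⊤)) (GrothLib.Cohom.app_injective_of_mono f ⊤ h1)
    exact (GrothLib.ProjCoh.H0top (CohB1.tensorPow A n)).toEquiv.nontrivial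
  refine ⟨?_, hpos⟩
  set q := n / r
  set s := n % r
  have hs : s < r := Nat.mod_lt _ hr
  have hq : T + 1 ≤ q := (Nat.le_div_iff_mul_le hr).2 (by rw [mul_comm]; omega)
  have hvan : ∀ w : Pic X, NumCls k w → ∀ l, 1 ≤ l →
      hf k (tw (Coh.structureModule X) (a ^ s)) (w * cl ι ^ (q : ℤ)) l = 0 := fun w hw l hl => by
    refine hm s w hw l q hl ?_
    have : (m s).toNat ≤ T := Finset.le_sup (f := fun s => (m s).toNat) (Finset.mem_range.2 hs)
    omega
  have key : ∀ w : Pic X, NumCls k w → (hf k (tw (Coh.structureModule X) (a ^ s)) (w * cl ι ^ (q : ℤ)) 0 : ℤ) =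
      GrothLib.FGAInt26.ev k (tw (Coh.structureModule X) (a ^ s)) (w * cl ι ^ (q : ℤ)) := by
    intro w hw
    obtain ⟨B, hB⟩ := GrothLib.Euler.exists_bound (X := X) k
    have hc := GrothLib.Snapper.isCoh_tw k (GrothLib.Snapper.isCoh_tw k hO (a ^ s)) (w * cl ι ^ (q : ℤ))
    haveI := hc.1
    rw [GrothLib.FGAInt26.ev, GrothLib.Euler.euler_eq_sum k _ (N := B + 1) (fun l hl => hB _ l (by omega)),
      Finset.sum_eq_single 0]
    · simp [hf, GrothLib.NefGrowth.hl]
    · intro l _ hl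
      have h0 := hvan w hw l (Nat.one_le_iff_ne_zero.2 hl)
      simp only [hf, GrothLib.NefGrowth.hl] at h0
      rw [h0]
      simp
    · simp
  have hidx : ∀ w : Pic X, hf k (Coh.structureModule X) (w * a ^ n) 0 =
      hf k (tw (Coh.structureModule X) (a ^ s)) (w * cl ι ^ (q : ℤ)) 0 := fun w => by
    rw [GrothLib.Snapper.hf_twist, hcl, zpow_natCast, ← pow_mul]
    congr 1
    rw [mul_left_comm, ← pow_add, Nat.mod_add_div]
  have hinv := (GrothLib.NumReg26.good_of_isCoh ι hιk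
    (GrothLib.Snapper.isCoh_tw k (GrothLib.Snapper.isCoh_tw k hO (a ^ s)) (cl ι ^ (q : ℤ)))).inv z hz
  rw [GrothLib.FGAInt26.ev_tw k (tw (Coh.structureModule X) (a ^ s)) (cl ι ^ (q : ℤ)) z,
    GrothLib.FGAInt26.ev_tw k (tw (Coh.structureModule X) (a ^ s)) (cl ι ^ (q : ℤ)) 1,
    mul_comm (cl ι ^ (q : ℤ)) z, mul_comm (cl ι ^ (q : ℤ)) 1] at hinv
  have h1 := hidx z
  have h2 := hidx 1
  rw [one_mul] at h2
  have h3 := key z hz
  have h4 := key 1 (GrothLib.NumReg26.numCls_one k)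
  omega

/-- Every numerically trivial class lies below all large powers of an ample one. -/
theorem exists_numTriv_pLe {A : X.Modules} (hA : CohB1.IsAmple A) :
    ∃ m₀ : ℕ, ∀ m, m₀ ≤ m → ∀ z : Pic X, NumCls k z → PLe z (clsMod hA.1 ^ m) := by
  obtain ⟨m₀, hm₀⟩ := exists_numTriv_sections k hA
  refine ⟨m₀, fun m hm z hz => ?_⟩
  obtain ⟨h1, h2⟩ := hm₀ m hm z⁻¹ (hz.inv k)
  have h := (one_pLe_of_hf_pos k (h2.trans_le h1.ge)).mul_right z
  rwa [one_mul, mul_comm z⁻¹, inv_mul_cancel_right] at h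

/-- The sections of powers of numerically equivalent classes agree up to lower order. -/
theorem exists_h0_le_numTriv {A : X.Modules} (hA : CohB1.IsAmple A) {d : ℕ} (hd : topologicalKrullDim X = d)
    (x : Pic X) : ∃ C : ℕ, (d = 0 → C = 0) ∧ ∀ z, NumCls k z → ∀ m : ℕ, 1 ≤ m →
      hf k (Coh.structureModule X) ((x * z) ^ m) 0 ≤
        hf k (Coh.structureModule X) (x ^ m) 0 + C * (2 * m) ^ (d - 1) := by
  haveI := GrothLib.Euler.isNoetherian_of_proper (X := X) k
  obtain ⟨m₀, hm₀⟩ := exists_numTriv_pLe k hA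
  obtain ⟨j₁, hj₁⟩ := GrothLib.Kodaira.exists_pLe_pow hA (1 : Pic X)
  set J := m₀ + j₁
  have hX : DimLT (Set.univ : Set X) (d + 1) := GrothLib.Kleiman.dimLT_univ hd.le
  obtain ⟨L, hL, hLx⟩ := GrothLib.Kodaira.exists_rep x
  obtain ⟨Q, hQ, hQd, hbd⟩ := GrothLib.NefGrowth.exists_quot k hX hL (hj₁ J (Nat.le_add_left _ _))
  obtain ⟨C, hC0, hC⟩ := exists_bound_small k hA hQ hQd (fun _ : Fin 1 => x)
  refine ⟨C, hC0, fun z hz m hm => ?_⟩
  have h1 : hf k (Coh.structureModule X) ((x * z) ^ m) 0 ≤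
      hf k (Coh.structureModule X) (clsMod hA.1 ^ J * x ^ m) 0 := by
    obtain ⟨P, hP, hPx⟩ := GrothLib.Kodaira.exists_rep ((x * z) ^ m)
    obtain ⟨R, hR, hRx⟩ := GrothLib.Kodaira.exists_rep (clsMod hA.1 ^ J * x ^ m)
    have hle : PLe ((x * z) ^ m) (clsMod hA.1 ^ J * x ^ m) := by
      rw [mul_pow, mul_comm (x ^ m)]
      exact (hm₀ J (Nat.le_add_right _ _) _ (hz.pow k m)).mul_right (x ^ m)
    have h := GrothLib.Kodaira.h0_le_of_pLe k hP hR (by rw [hPx, hRx]; exact hle)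
    rwa [show h0 k P = _ from hl_eq_hf_structure k (show HasCls P _ from ⟨hP, hPx⟩) 0,
      show h0 k R = _ from hl_eq_hf_structure k (show HasCls R _ from ⟨hR, hRx⟩) 0] at h
  have h2 := (hbd m 0).1
  simp only [one_mul, GrothLib.NefGrowth.hc, hLx] at h2
  rw [hl_eq_hf_structure k (show HasCls _ _ from ⟨GrothLib.HodgeIndex.isInv_rep _, GrothLib.HodgeIndex.cls_rep _⟩),
    hl_eq_hf_structure k (show HasCls _ _ from ⟨GrothLib.HodgeIndex.isInv_rep _, GrothLib.HodgeIndex.cls_rep _⟩)] at h2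
  have h3 := hC 0 (fun _ => (m : ℤ))
  simp only [zpow_natCast, Finset.univ_unique, Finset.prod_singleton] at h3
  obtain ⟨e⟩ := GrothLib.Snapper.tw_iso (F := Q) ((show HasCls L x from ⟨hL, hLx⟩).tensorPow m)
  have h4 : hf k Q (x ^ m) 0 ≤ C * (2 * m) ^ (d - 1) := by
    refine h3.trans (Nat.mul_le_mul_left _ (Nat.pow_le_pow_left ?_ _))
    simp [GrothLib.GrowthBd.wt]
    omega
  rw [← GrothLib.NefGrowth.hl_iso k e 0] at h2
  change _ ≤ _ + hf k Q (x ^ m) 0 at h2
  omega

end GrothLib.AsympCoh5
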