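import Groth.Agent.Lib.AsympCoh5.NumEff
import Groth.Agent.Lib.AsympCoh5.FamBound
import Groth.Agent.Lib.AsympCoh5.Exact

/-!
# Numerical invariance of the asymptotic cohomological functions
-/

set_option autoImplicit false
set_option linter.all false
set_option backward.isDefEq.respectTransparency false
set_option maxHeartbeats 800000

universe u

open CategoryTheory CategoryTheory.Limits AlgebraicGeometry TopologicalSpace Filter Topology

noncomputable section

namespace GrothLib.AsympCoh5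

open GrothLib.Snapper (DimLT tw hf)
open GrothLib.Cube (Pic clsMod HasCls hasCls_clsMod)
open GrothLib.HodgeIndex (rep isInv_rep cls_rep)
open GrothLib.NumReg26 (NumCls cl)
open GrothLib.Kodaira (PLe)

variable {X : Scheme.{u}} [AlgebraicGeometry.IsIntegral X] {k : Type u} [Field k] [X.Over (Spec (CommRingCat.of k))]
  [IsProper (X ↘ Spec (CommRingCat.of k))]

/-- Twisting by a numerically trivial class changes cohomology along multiples by lower order, uniformly. -/
theorem exists_numTriv_lipschitz {H : X.Modules} (hH : CohB1.IsAmple H) {n : ℕ} (hn : topologicalKrullDim X = n)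
    (x : Pic X) (i : ℕ) : ∃ C : ℕ, (n = 0 → C = 0) ∧ ∀ z, NumCls k z → ∀ m : ℕ, 1 ≤ m →
      hf k (Coh.structureModule X) (x ^ m * z) i ≤ hf k (Coh.structureModule X) (x ^ m) i + C * (2 * m) ^ (n - 1) ∧
      hf k (Coh.structureModule X) (x ^ m) i ≤ hf k (Coh.structureModule X) (x ^ m * z) i + C * (2 * m) ^ (n - 1) := by
  haveI := GrothLib.Euler.isNoetherian_of_proper (X := X) k
  obtain ⟨r, N, ι, hr, hι, hιk, -⟩ := GrothLib.DecSh20.exists_embedding k hH
  haveI := hι
  obtain ⟨m₀, hm₀⟩ := exists_numTriv_pLe k hH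
  set b := clsMod hH.1 ^ m₀ with hb
  have hO := isCoh_structure (X := X) k
  have hbc : Coh.IsCoh (rep b) := GrothLib.Euler.isCoh_of_isInvertible (isInv_rep b)
  obtain ⟨mz, hmz⟩ := (GrothLib.NumReg26.good_of_isCoh ι hιk hO).reg
  obtain ⟨mb, hmb⟩ := (GrothLib.NumReg26.good_of_isCoh ι hιk hbc).reg
  set M := max mz mb
  let B : ℕ := hf k (rep b) (cl ι ^ M) 0
  let R : X.Modules → Prop := fun Q => ∃ (z : Pic X) (f : rep z ⟶ rep b), NumCls k z ∧ Mono f ∧
    Nonempty (cokernel f ≅ Q)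
  have hrepO : ∀ (z v : Pic X) (l : ℕ), hf k (rep z) v l = hf k (Coh.structureModule X) (z * v) l := fun z v l => by
    obtain ⟨e⟩ := GrothLib.Snapper.tw_iso (F := Coh.structureModule X) (show HasCls (rep z) z from ⟨isInv_rep z, cls_rep z⟩)
    rw [← GrothLib.Snapper.hf_twist k (Coh.structureModule X) z v l]
    exact GrothLib.Snapper.hf_iso k ((GrothLib.Euler.tFUnitIso _).symm ≪≫
      GrothLib.GrTilde.tensorModComm (rep z) (Coh.structureModule X) ≪≫ e.symm) v l
  have hses : ∀ (z : Pic X) (f : rep z ⟶ rep b) [Mono f],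
      (ShortComplex.mk f (cokernel.π f) (cokernel.condition f)).ShortExact ∧ Coh.IsCoh (cokernel f) := fun z f _ =>
    ⟨{ exact := ShortComplex.exact_of_g_is_cokernel _ (cokernelIsCokernel f) },
      GrothLib.QCoh.isCoh_cokernel f (GrothLib.Euler.isCoh_of_isInvertible (isInv_rep z)) hbc⟩
  have hRd : ∀ Q, R Q → DimLT (CohB1.support Q) n := by
    rintro Q ⟨z, f, -, hf', ⟨e⟩⟩
    haveI := hf'
    rw [← GrothLib.QCoh.support_eq_of_iso e]
    refine GrothLib.Snapper.dimLT_of_notMem (η := genericPoint X) (dimLT_support_of_dim hn) ?_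
      (GrothLib.QCoh.notMem_support_cokernel_of_surjective f (GrothLib.Euler.stalkLin_genericPoint_bijective
        (isInv_rep z) (isInv_rep b) (GrothLib.Kodaira.exists_ne_zero_of_mono (isInv_rep z) f)).2)
    rw [(genericPoint_spec X).def]
    exact Set.subset_univ _
  have hRb : Pic13.IsBounded k X R := by
    refine GrothLib.BddFam20.isBounded_mono (GrothLib.BddFam20.isBounded_regular_closed ι hιk M B) ?_
    rintro Q ⟨z, f, hz, hf', ⟨e⟩⟩
    haveI := hf'
    obtain ⟨hS, hQ'⟩ := hses z f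
    have hQ : Coh.IsCoh Q := GrothLib.QCoh.isCoh_of_iso e hQ'
    have hle : ∀ (v : Pic X) (l : ℕ), hf k Q v l ≤ hf k (rep b) v l + hf k (rep z) v (l + 1) := fun v l => by
      rw [← GrothLib.Snapper.hf_iso k e]
      exact (hf_ses k hS (GrothLib.Euler.isCoh_of_isInvertible (isInv_rep z)) hbc hQ' v l).2.1
    have hz0 : ∀ (q : ℕ) (t : ℤ), M - q ≤ t + 1 → hf k (rep z) (cl ι ^ t) (q + 1) = 0 := fun q t ht => by
      rw [hrepO]
      exact hmz z hz (q + 1) t (Nat.succ_pos q) (by push_cast; omega)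
    have hb0 : ∀ (q : ℕ) (t : ℤ), 1 ≤ q → M - q ≤ t → hf k (rep b) (cl ι ^ t) q = 0 := fun q t hq ht => by
      have := hmb 1 (GrothLib.NumReg26.numCls_one k) q t hq (by omega)
      rwa [one_mul] at this
    have htw : ∀ (t : ℤ), Nonempty (tw Q (cl ι ^ t) ≅ Pic13.twistOn k ι Q t) := fun t =>
      GrothLib.Snapper.tw_iso (F := Q) (GrothLib.NumReg26.hasCls_cl ι t)
    have hreg : Pic13.IsMRegular k ι Q M := fun q hq => by
      obtain ⟨α⟩ := htw (M - q)
      have h0 : hf k Q (cl ι ^ (M - (q : ℤ))) q = 0 := by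
        have := hle (cl ι ^ (M - (q : ℤ))) q
        rw [hb0 q _ hq le_rfl, hz0 q _ (by omega)] at this
        omega
      haveI := GrothLib.Euler.finiteDimensional_HH k (GrothLib.Snapper.isCoh_tw k hQ (cl ι ^ (M - (q : ℤ)))) q
      haveI : Subsingleton (Coh.HH X (tw Q (cl ι ^ (M - (q : ℤ)))) q) := Module.finrank_zero_iff.1 h0
      exact (GrothLib.Euler.hhEquiv (A := k) α q).symm.toEquiv.subsingleton
    refine ⟨hQ, GrothLib.BddFam20.isMRegular_push ι hιk hQ hreg, ?_⟩
    obtain ⟨g⟩ := GrothLib.BddFam20.nonempty_HH_twistOn ι hιk hQ M 0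
    obtain ⟨α⟩ := htw M
    rw [← g.finrank_eq, ← (GrothLib.Euler.hhEquiv (A := k) α 0).finrank_eq]
    have := hle (cl ι ^ M) 0
    rw [hz0 0 M (by omega)] at this
    exact this
  obtain ⟨C, hC0, hC⟩ : ∃ C : ℕ, (n = 0 → C = 0) ∧
      ∀ Q, R Q → Coh.IsCoh Q → ∀ m : ℕ, 1 ≤ m → ∀ l, hf k Q (x ^ m) l ≤ C * (2 * m) ^ (n - 1) := by
    cases n with
    | zero =>
      exact ⟨0, fun _ => rfl, fun Q hQ hc m _ l => by simp [GrothLib.Snapper.hf_eq_zero k (hRd Q hQ) hc]⟩
    | succ e =>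
      obtain ⟨C, hC⟩ := exists_bound_of_isBounded hH hRb hRd x
      exact ⟨C, fun h => absurd h (Nat.succ_ne_zero e), fun Q hQ _ m hm l => by simpa using hC Q hQ m hm l⟩
  refine ⟨4 * C, fun h => by simp [hC0 h], fun z hz m hm => ?_⟩
  have key : ∀ w : Pic X, NumCls k w →
      hf k (rep b) (x ^ m) i ≤ hf k (Coh.structureModule X) (x ^ m * w) i + 2 * (C * (2 * m) ^ (n - 1)) ∧
      hf k (Coh.structureModule X) (x ^ m * w) i ≤ hf k (rep b) (x ^ m) i + 2 * (C * (2 * m) ^ (n - 1)) := by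
    intro w hw
    obtain ⟨f, hf'⟩ := (GrothLib.Kodaira.pLe_iff (isInv_rep w) (isInv_rep b)).1 (by
      rw [cls_rep, cls_rep]; exact hm₀ m₀ le_rfl w hw)
    haveI := hf'
    obtain ⟨hS, hQ⟩ := hses w f
    have hw' : Coh.IsCoh (rep w) := GrothLib.Euler.isCoh_of_isInvertible (isInv_rep w)
    have hR : R (cokernel f) := ⟨w, f, hw, hf', ⟨Iso.refl _⟩⟩
    have hq := fun l => hC _ hR hQ m hm l
    rw [mul_comm (x ^ m) w, ← hrepO]
    have h1 := (hf_ses k hS hw' hbc hQ (x ^ m) i).1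
    simp only at h1
    refine ⟨by have := hq i; omega, ?_⟩
    rcases Nat.eq_zero_or_pos i with h0 | h0
    · have h2 := (hf_ses k hS hw' hbc hQ (x ^ m) 0).2.2.2
      simp only at h2
      subst h0
      omega
    · have h2 := (hf_ses k hS hw' hbc hQ (x ^ m) (i - 1)).2.2.1
      simp only [Nat.sub_add_cancel h0] at h2
      have := hq (i - 1)
      omega
  obtain ⟨a1, a2⟩ := key z hz
  obtain ⟨b1, b2⟩ := key 1 (GrothLib.NumReg26.numCls_one k)
  rw [mul_one] at b1 b2
  have : 4 * C * (2 * m) ^ (n - 1) = 2 * (C * (2 * m) ^ (n - 1)) + 2 * (C * (2 * m) ^ (n - 1)) := by ring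
  omega

/-- The upper limit only depends on the numerical class. -/
theorem limsup_numTriv {H : X.Modules} (hH : CohB1.IsAmple H) {n : ℕ} (hn : topologicalKrullDim X = n)
    (x : Pic X) {z : Pic X} (hz : NumCls k z) (i : ℕ) :
    limsup (sq k (Coh.structureModule X) (x * z) n i) atTop = limsup (sq k (Coh.structureModule X) x n i) atTop := by
  haveI := GrothLib.Euler.isNoetherian_of_proper (X := X) k
  obtain ⟨C, hC0, hC⟩ := exists_numTriv_lipschitz (k := k) hH hn x i
  have hO := isCoh_structure (X := X) k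
  refine limsup_eq_of_tendsto (sq_nonneg k _ _ _ _) (sq_nonneg k _ _ _ _)
    (sq_bounded hH hO (dimLT_support_of_dim hn) _ i) (sq_bounded hH hO (dimLT_support_of_dim hn) x i)
    (tendsto_const_div_natCast ((C : ℝ) * n.factorial * 2 ^ (n - 1))) (eventually_atTop.2 ⟨1, fun m hm => ?_⟩)
  obtain ⟨h1, h2⟩ := hC (z ^ m) (hz.pow k m) m hm
  have e1 := abs_sub_le_of_le h1 h2
  have hm' : (0 : ℝ) < m := by exact_mod_cast hm
  rw [sq, sq, mul_pow, ← sub_div, ← sub_mul, abs_div, abs_mul, abs_of_nonneg (by positivity : (0 : ℝ) ≤ (n.factorial : ℝ)),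
    abs_of_nonneg (by positivity : (0 : ℝ) ≤ (m : ℝ) ^ n), div_le_iff₀ (by positivity)]
  refine (mul_le_mul_of_nonneg_right e1 (Nat.cast_nonneg _)).trans ?_
  rcases Nat.eq_zero_or_pos n with h0 | h0
  · simp [hC0 h0]
  push_cast
  rw [mul_pow]
  refine le_of_eq ?_
  calc _ = (C : ℝ) * n.factorial * 2 ^ (n - 1) / m * ((m : ℝ) ^ (n - 1) * m) := by field_simp
    _ = _ := by rw [← pow_succ, Nat.sub_add_cancel h0]

end GrothLib.AsympCoh5
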