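import Groth.Agent.Lib.AsympCoh5.LerayBd

/-!
# The asymptotic cohomological functions of pullbacks
-/

set_option autoImplicit false
set_option linter.all false
set_option backward.isDefEq.respectTransparency false

universe u

open CategoryTheory CategoryTheory.Limits AlgebraicGeometry TopologicalSpace Filter Topology

noncomputable section

namespace GrothLib.AsympCoh5

open GrothLib.Euler (tF)
open GrothLib.Snapper (DimLT tw hf IsTop)
open GrothLib.Cube (Pic clsMod HasCls hasCls_clsMod)
open GrothLib.HodgeIndex (rep isInv_rep cls_rep)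

variable {X Y : Scheme.{u}} {k : Type u} [Field k] [X.Over (Spec (CommRingCat.of k))]
  [Y.Over (Spec (CommRingCat.of k))] [IsProper (X ↘ Spec (CommRingCat.of k))]
  [IsProper (Y ↘ Spec (CommRingCat.of k))] {f : Y ⟶ X}

variable (f) in
/-- The higher direct images of the structure sheaf. -/
abbrev RO [HasInjectiveResolutions Y.Modules] (i : ℕ) : X.Modules := (Coh.Rpush f i).obj (Coh.structureModule Y)

theorem hf_pullback_bound (hf' : f ≫ X ↘ Spec (CommRingCat.of k) = Y ↘ Spec (CommRingCat.of k))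
    [HasInjectiveResolutions Y.Modules] (v : Pic X) (n : ℕ) :
    hf k (Coh.structureModule Y) (GrothLib.Cube.pull f v) n ≤ hf k (RO f 0) v n +
        3 * (∑ i ∈ Finset.Icc 1 (n + 1), ∑ j ∈ Finset.range (n + 2), hf k (RO f i) v j) ∧
      hf k (RO f 0) v n ≤ hf k (Coh.structureModule Y) (GrothLib.Cube.pull f v) n +
        3 * (∑ i ∈ Finset.Icc 1 (n + 1), ∑ j ∈ Finset.range (n + 2), hf k (RO f i) v j) := by
  haveI := GrothLib.Euler.isNoetherian_of_proper (X := X) k
  haveI := GrothLib.Euler.isNoetherian_of_proper (X := Y) k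
  let G := CohB1.tensorMod ((Scheme.Modules.pullback f).obj (rep v)) (Coh.structureModule Y)
  have hv : HasCls (rep v) v := ⟨isInv_rep v, cls_rep v⟩
  have hE : FlatMod.IsFinLocFree (rep v) := GrothLib.Euler.isFinLocFree_of_isInvertible (isInv_rep v)
  have hG : Coh.IsCoh G :=
    GrothLib.QCoh.isCoh_of_iso (GrothLib.Euler.tFUnitIso _).symm
      (GrothLib.Euler.isCoh_of_isFinLocFree (OX.isFinLocFree_pullback f hE))
  obtain ⟨e⟩ := GrothLib.Snapper.tw_iso (F := Coh.structureModule Y) (hv.pullback f)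
  have e1 : hf k (Coh.structureModule Y) (GrothLib.Cube.pull f v) n = fr k G n :=
    GrothLib.NefGrowth.hl_iso k (e ≪≫ GrothLib.GrTilde.tensorModComm _ _) n
  have e2 : ∀ i j, hf k (RO f i) v j = fr k ((Coh.Rpush f i).obj G) j := fun i j => by
    obtain ⟨a⟩ := Groth.Agent.S0927.result f (Coh.structureModule Y) (rep v) hE i
    exact GrothLib.NefGrowth.hl_iso k (GrothLib.GrTilde.tensorModComm (RO f i) (rep v) ≪≫ a) j
  simp only [e1, e2]
  exact fr_leray_bound k hf' G hG n

theorem exists_err_bound (hf' : f ≫ X ↘ Spec (CommRingCat.of k) = Y ↘ Spec (CommRingCat.of k))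
    [HasInjectiveResolutions Y.Modules] {H : X.Modules} (hH : CohB1.IsAmple H) {d : ℕ} (x : Pic X) (n : ℕ)
    (hd : ∀ i, 1 ≤ i → DimLT (CohB1.support (RO f i)) d) :
    ∃ C : ℕ, (d = 0 → C = 0) ∧ ∀ m : ℕ, 1 ≤ m →
      (∑ i ∈ Finset.Icc 1 (n + 1), ∑ j ∈ Finset.range (n + 2), hf k (RO f i) (x ^ m) j) ≤
        C * (2 * m) ^ (d - 1) := by
  haveI : IsProper (f ≫ X ↘ Spec (CommRingCat.of k)) := by rw [hf']; infer_instance
  haveI : IsProper f := IsProper.of_comp f (X ↘ Spec (CommRingCat.of k))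
  haveI := GrothLib.Euler.isNoetherian_of_proper (X := X) k
  have hc : ∀ i, Coh.IsCoh (RO f i) := fun i =>
    Cohom.isCoh_Rpush f _ (isCoh_structure (X := Y) k) i
  have : ∀ i, ∃ C : ℕ, (d = 0 → C = 0) ∧ (1 ≤ i → ∀ m : ℕ, 1 ≤ m → ∀ j,
      hf k (RO f i) (x ^ m) j ≤ C * (2 * m) ^ (d - 1)) := fun i => by
    by_cases hi : 1 ≤ i
    · obtain ⟨C, hC0, hC⟩ := exists_bound_small k hH (hc i) (hd i hi) (fun _ : Fin 1 => x)
      refine ⟨C, hC0, fun _ m hm j => ?_⟩
      have := hC j (fun _ => (m : ℤ))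
      simp only [zpow_natCast, Finset.univ_unique, Finset.prod_singleton] at this
      refine this.trans (Nat.mul_le_mul_left _ (Nat.pow_le_pow_left ?_ _))
      simp [GrothLib.GrowthBd.wt]
      omega
    · exact ⟨0, fun _ => rfl, fun h => absurd h hi⟩
  choose C hC0 hC using this
  refine ⟨∑ i ∈ Finset.Icc 1 (n + 1), ∑ _j ∈ Finset.range (n + 2), C i, fun h => by simp [hC0 _ h], fun m hm => ?_⟩
  rw [Finset.sum_mul]
  refine Finset.sum_le_sum fun i hi => ?_
  rw [Finset.sum_mul]
  exact Finset.sum_le_sum fun j _ => hC i (Finset.mem_Icc.1 hi).1 m hm j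

variable [AlgebraicGeometry.IsIntegral X] [AlgebraicGeometry.IsIntegral Y]
  (hf' : f ≫ X ↘ Spec (CommRingCat.of k) = Y ↘ Spec (CommRingCat.of k))

include hf' in
/-- Pullbacks from a scheme of smaller dimension. -/
theorem limsup_pullback_eq_zero {H : X.Modules} (hH : CohB1.IsAmple H) {n e : ℕ}
    (hn : topologicalKrullDim X = n) (hne : n < e) (x : Pic X) (i : ℕ) :
    limsup (sq k (Coh.structureModule Y) (GrothLib.Cube.pull f x) e i) atTop = 0 := by
  haveI : IsProper (f ≫ X ↘ Spec (CommRingCat.of k)) := by rw [hf']; infer_instance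
  haveI : IsProper f := IsProper.of_comp f (X ↘ Spec (CommRingCat.of k))
  haveI := GrothLib.Euler.isNoetherian_of_proper (X := X) k
  obtain ⟨C, hC0, hC⟩ := exists_err_bound hf' hH (d := n + 1) x i
    (fun j _ => dimLT_support_of_dim hn)
  obtain ⟨D, hD⟩ := GrothLib.GrowthBd.exists_bound_field k hH
    (Cohom.isCoh_Rpush f _ (isCoh_structure (X := Y) k) 0) (dimLT_support_of_dim hn) (fun _ : Fin 1 => x)
  refine Tendsto.limsup_eq (squeeze_zero' (Eventually.of_forall fun m => sq_nonneg k _ _ _ _ m)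
    (eventually_atTop.2 ⟨1, fun m hm => ?_⟩)
    (tendsto_const_div_natCast (((D + 3 * C : ℕ) : ℝ) * 2 ^ n * e.factorial)))
  have h1 := (hf_pullback_bound hf' (x ^ m) i).1
  have h2 := hD i (fun _ => (m : ℤ))
  simp only [zpow_natCast, Finset.univ_unique, Finset.prod_singleton] at h2
  have h2' : hf k (RO f 0) (x ^ m) i ≤ D * (2 * m) ^ n := by
    refine h2.trans (Nat.mul_le_mul_left _ (Nat.pow_le_pow_left ?_ _))
    simp [GrothLib.GrowthBd.wt]
    omega
  have h3 := hC m hm
  rw [Nat.add_sub_cancel] at h3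
  have h4 : hf k (Coh.structureModule Y) (GrothLib.Cube.pull f x ^ m) i ≤ (D + 3 * C) * 2 ^ n * m ^ n := by
    rw [← map_pow]
    calc _ ≤ _ := h1
      _ ≤ D * (2 * m) ^ n + 3 * (C * (2 * m) ^ n) := by omega
      _ = _ := by rw [mul_pow]; ring
  have hm' : (1 : ℝ) ≤ m := by exact_mod_cast hm
  rw [sq, div_le_iff₀ (by positivity)]
  have h5 : (hf k (Coh.structureModule Y) (GrothLib.Cube.pull f x ^ m) i : ℝ) ≤
      ((D + 3 * C : ℕ) : ℝ) * 2 ^ n * (m : ℝ) ^ n := by exact_mod_cast h4
  refine (mul_le_mul_of_nonneg_right h5 (Nat.cast_nonneg _)).trans ?_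
  have h6 : (m : ℝ) ^ n * m ≤ (m : ℝ) ^ e := by
    rw [← pow_succ]
    exact pow_le_pow_right₀ hm' hne
  calc _ = ((D + 3 * C : ℕ) : ℝ) * 2 ^ n * e.factorial / m * ((m : ℝ) ^ n * m) := by field_simp
    _ ≤ _ := mul_le_mul_of_nonneg_left h6 (by positivity)

include hf' in
/-- Pullbacks along generically finite dominant morphisms. -/
theorem limsup_pullback_eq_degree_mul {H : X.Modules} (hH : CohB1.IsAmple H) {HY : Y.Modules}
    (hHY : CohB1.IsAmple HY) {n : ℕ} (hn : topologicalKrullDim X = n)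
    (hdom : f.base (genericPoint Y) = genericPoint X) {d : ℕ} (hd : f.residueDegree (genericPoint Y) = d)
    (hd0 : 1 ≤ d) (x : Pic X) (i : ℕ) :
    limsup (sq k (Coh.structureModule Y) (GrothLib.Cube.pull f x) n i) atTop =
      (d : ℝ) * limsup (sq k (Coh.structureModule X) x n i) atTop := by
  haveI : IsProper (f ≫ X ↘ Spec (CommRingCat.of k)) := by rw [hf']; infer_instance
  haveI : IsProper f := IsProper.of_comp f (X ↘ Spec (CommRingCat.of k))
  haveI := GrothLib.Euler.isNoetherian_of_proper (X := X) k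
  obtain ⟨e, he⟩ := AffDom.exists_nat_ptDim (Y ↘ Spec (CommRingCat.of k)) (genericPoint Y)
  have he' : topologicalKrullDim Y = e := by
    rw [← he]
    show topologicalKrullDim Y = topologicalKrullDim (closure ({genericPoint Y} : Set Y))
    rw [(genericPoint_spec Y).def]
    exact ((IsHomeomorph.topologicalKrullDim_eq _ (Homeomorph.Set.univ Y).isHomeomorph)).symm
  have htop : IsTop e (f (genericPoint Y)) := by
    by_contra hc
    have := GrothLib.Snapper.residueDegree_eq_zero hf' he' hc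
    omega
  obtain rfl : e = n := by
    have h : topologicalKrullDim (closure ({genericPoint X} : Set X)) = (e : WithBot ℕ∞) := by
      rw [← hdom]; exact htop
    rw [(genericPoint_spec X).def] at h
    exact_mod_cast (h.symm.trans ((IsHomeomorph.topologicalKrullDim_eq _ (Homeomorph.Set.univ X).isHomeomorph).trans hn))
  have hR := GrothLib.Snapper.rpush_structure hf' he'
  have hhi : ∀ j, 1 ≤ j → DimLT (CohB1.support (RO f j)) e := by
    intro j hj
    refine GrothLib.Snapper.dimLT_of_notMem (η := f (genericPoint Y))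
      (GrothLib.Snapper.dimLT_image hf' he') (hR j).2.1 fun hmem => ?_
    have h0 := (hR j).2.2 htop
    rw [if_neg (by omega)] at h0
    haveI := GrothLib.Euler.stalk_finite (hR j).1 (f (genericPoint Y))
    rw [hdom] at hmem h0
    letI : Field (X.presheaf.stalk (genericPoint X)) := CurvePoints.isField_stalk_genericPoint.toField
    haveI := GrothLib.Euler.stalk_finite (hR j).1 (genericPoint X)
    rw [GrothLib.Snapper.mult, Module.length_eq_finrank] at h0
    simp only [ENat.toNat_coe] at h0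
    exact hmem (Module.finrank_zero_iff.1 h0)
  have hrank : GrothLib.Euler.grank (RO f 0) = d := by
    have h0 := (hR 0).2.2 htop
    rw [if_pos rfl, hd, hdom] at h0
    letI : Field (X.presheaf.stalk (genericPoint X)) := CurvePoints.isField_stalk_genericPoint.toField
    haveI := GrothLib.Euler.stalk_finite (hR 0).1 (genericPoint X)
    rw [GrothLib.Snapper.mult, Module.length_eq_finrank] at h0
    simpa [GrothLib.Euler.grank] using h0
  obtain ⟨C, hC0, hC⟩ := exists_err_bound hf' hH (d := e) x i hhi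
  have key : limsup (sq k (Coh.structureModule Y) (GrothLib.Cube.pull f x) e i) atTop =
      limsup (sq k (RO f 0) x e i) atTop := by
    refine limsup_eq_of_tendsto (sq_nonneg k _ _ _ _) (sq_nonneg k _ _ _ _)
      (sq_bounded hHY (isCoh_structure (X := Y) k) (dimLT_support_of_dim he') _ i)
      (sq_bounded hH (hR 0).1 (dimLT_support_of_dim hn) x i)
      (tendsto_const_div_natCast (3 * C * e.factorial * 2 ^ (e - 1))) (eventually_atTop.2 ⟨1, fun m hm => ?_⟩)
    obtain ⟨h1, h2⟩ := hf_pullback_bound hf' (x ^ m) i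
    rw [map_pow] at h1 h2
    have h3 := hC m hm
    have e1 := abs_sub_le_of_le (e := 3 * (C * (2 * m) ^ (e - 1))) (h1.trans (by omega)) (h2.trans (by omega))
    have hm' : (0 : ℝ) < m := by exact_mod_cast hm
    rw [sq, sq, ← sub_div, ← sub_mul, abs_div, abs_mul, abs_of_nonneg (by positivity : (0 : ℝ) ≤ (e.factorial : ℝ)),
      abs_of_nonneg (by positivity : (0 : ℝ) ≤ (m : ℝ) ^ e), div_le_iff₀ (by positivity)]
    refine (mul_le_mul_of_nonneg_right e1 (Nat.cast_nonneg _)).trans ?_
    rcases Nat.eq_zero_or_pos e with h0 | h0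
    · simp [hC0 h0]
    push_cast
    rw [mul_pow]
    refine le_of_eq ?_
    calc _ = 3 * (C : ℝ) * e.factorial * 2 ^ (e - 1) / m * ((m : ℝ) ^ (e - 1) * m) := by field_simp
      _ = _ := by rw [← pow_succ, Nat.sub_add_cancel h0]
  rw [key, limsup_eq_rank_mul hH hn (hR 0).1 x i, hrank]

end GrothLib.AsympCoh5
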