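import Groth.Agent.Lib.AsympCoh5.Exact
import Groth.Agent.Lib.AmpleCd10.Main
import Groth.Agent.Lib.Euler.Slope2
import Groth.Agent.Lib.Euler.Torsion
import Groth.Agent.Lib.Euler.GenericCompare
import Groth.Agent.Lib.SerrePn27.Generic
import Groth.Agent.Lib.QCoh.SupportExact

/-!
# The asymptotic cohomological functions of a module of given generic rank
-/

set_option autoImplicit false
set_option linter.all false
set_option backward.isDefEq.respectTransparency false

universe u

open CategoryTheory CategoryTheory.Limits AlgebraicGeometry TopologicalSpace Filter Topology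

noncomputable section

namespace GrothLib.AsympCoh5

open GrothLib.Euler (tF)
open GrothLib.QCoh (stalkLin)
open GrothLib.Snapper (DimLT tw hf)
open GrothLib.Cube (Pic clsMod HasCls hasCls_clsMod)
open GrothLib.HodgeIndex (rep isInv_rep)

variable {X : Scheme.{u}}

section additivity

variable (k : Type u) [Field k] [X.Over (Spec (CommRingCat.of k))] [IsProper (X ↘ Spec (CommRingCat.of k))]

theorem hl_biprod {A B : X.Modules} (hA : Coh.IsCoh A) (hB : Coh.IsCoh B) (i : ℕ) :
    GrothLib.NefGrowth.hl k (A ⊞ B) i = GrothLib.NefGrowth.hl k A i + GrothLib.NefGrowth.hl k B i := by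
  haveI := GrothLib.Euler.finiteDimensional_HH k hA i
  haveI := GrothLib.Euler.finiteDimensional_HH k hB i
  show Module.finrank k (Coh.HH X (A ⊞ B) i) = Module.finrank k (Coh.HH X A i) + Module.finrank k (Coh.HH X B i)
  rw [← Module.finrank_prod]
  refine (LinearEquiv.ofBijective ((Cohom.hhMap k (biprod.fst : A ⊞ B ⟶ A) i).prod
    (Cohom.hhMap k (biprod.snd : A ⊞ B ⟶ B) i)) ⟨(injective_iff_map_eq_zero _).2 fun x hx => ?_, fun y =>
    ⟨Cohom.hhMap k (biprod.inl : A ⟶ A ⊞ B) i y.1 + Cohom.hhMap k (biprod.inr : B ⟶ A ⊞ B) i y.2, ?_⟩⟩).finrank_eq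
  · obtain ⟨h1, h2⟩ := Prod.ext_iff.1 hx
    change Cohom.hhMap k (biprod.fst : A ⊞ B ⟶ A) i x = 0 at h1
    change Cohom.hhMap k (biprod.snd : A ⊞ B ⟶ B) i x = 0 at h2
    rw [← Euler.hhMap_id (A := k) (A ⊞ B) i x, ← biprod.total, SerrePn27.hhMap_add, LinearMap.add_apply,
      Euler.hhMap_comp, Euler.hhMap_comp, h1, h2, map_zero, map_zero, add_zero]
  · refine Prod.ext ?_ ?_
    · show Cohom.hhMap k (biprod.fst : A ⊞ B ⟶ A) i _ = _
      rw [map_add, ← Euler.hhMap_comp, ← Euler.hhMap_comp, biprod.inl_fst, biprod.inr_fst, Euler.hhMap_id,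
        SerrePn27.hhMap_zero, LinearMap.zero_apply, add_zero]
    · show Cohom.hhMap k (biprod.snd : A ⊞ B ⟶ B) i _ = _
      rw [map_add, ← Euler.hhMap_comp, ← Euler.hhMap_comp, biprod.inl_snd, biprod.inr_snd, Euler.hhMap_id,
        SerrePn27.hhMap_zero, LinearMap.zero_apply, zero_add]

theorem hf_biprod {A B : X.Modules} (hA : Coh.IsCoh A) (hB : Coh.IsCoh B) (v : Pic X) (i : ℕ) :
    hf k (A ⊞ B) v i = hf k A v i + hf k B v i := by
  haveI : PreservesColimitsOfSize.{0, 0} (tF (rep v)) := preservesColimitsOfSize_shrink.{0, u, 0, u} _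
  haveI : PreservesBinaryBiproduct A B (tF (rep v)) := preservesBinaryBiproduct_of_preservesBinaryCoproduct _
  rw [show hf k (A ⊞ B) v i = GrothLib.NefGrowth.hl k ((tF (rep v)).obj A ⊞ (tF (rep v)).obj B) i from
    GrothLib.NefGrowth.hl_iso k ((tF (rep v)).mapBiprod A B) i]
  exact hl_biprod k (GrothLib.Snapper.isCoh_tw k hA v) (GrothLib.Snapper.isCoh_tw k hB v) i

end additivity

/-- The value at a stalk of a map out of a finite coproduct is determined by the summands. -/
theorem stalkLin_mem_of_sigma {N : ℕ} {P : Fin N → X.Modules} {F : X.Modules} (p : (∐ P) ⟶ F) (x : X)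
    (S : Submodule (X.presheaf.stalk x) (F.presheaf.stalk x))
    (h : ∀ j t, stalkLin (Sigma.ι P j ≫ p) x t ∈ S) (e : (∐ P).presheaf.stalk x) : stalkLin p x e ∈ S := by
  classical
  let π : ∀ j, (∐ P) ⟶ P j := fun j => Sigma.desc (Function.update (fun l => (0 : P l ⟶ P j)) j (𝟙 _))
  have htot : 𝟙 (∐ P) = ∑ j, π j ≫ Sigma.ι P j := Sigma.hom_ext _ _ fun l => by
    rw [Category.comp_id, Preadditive.comp_sum, Finset.sum_eq_single l]
    · simp [π]
    · intro j _ hj
      simp [π, Function.update_of_ne (Ne.symm hj)]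
    · simp
  let φ : ((∐ P) ⟶ ∐ P) →+ (∐ P).presheaf.stalk x :=
    AddMonoidHom.mk' (fun f => stalkLin f x e) (fun f g => GrothLib.QCoh.stalkLin_add f g x e)
  have he : e = ∑ j, stalkLin (π j ≫ Sigma.ι P j) x e :=
    ((GrothLib.QCoh.stalkLin_id _ x e).symm.trans (congrArg φ htot)).trans (map_sum φ _ _)
  rw [he, map_sum]
  refine Submodule.sum_mem _ fun j _ => ?_
  rw [← GrothLib.QCoh.stalkLin_comp, Category.assoc, GrothLib.QCoh.stalkLin_comp]
  exact h j _

variable [AlgebraicGeometry.IsIntegral X]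

/-- Sections which vanish at the generic point vanish. -/
def GenDet (G : X.Modules) : Prop :=
  ∀ (W : X.Opens) (s : Γ(G, W)), (∀ h : genericPoint X ∈ W, G.presheaf.germ W (genericPoint X) h s = 0) → s = 0

theorem genDet_of_locFree {G : X.Modules} {r : ℕ} (hG : FlatMod.IsFinLocFreeOfRank r G) : GenDet G := by
  intro W s h
  refine GrothLib.QCoh.section_eq_zero_of_germ G s fun x hx => ?_
  obtain ⟨D, e, hxD, he⟩ := GrothLib.FinCov.exists_frame_nhd_of_rank hG x
  have hη : genericPoint X ∈ W ⊓ D :=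
    ((genericPoint_spec X).specializes trivial).mem_open (W ⊓ D).2 ⟨hx, hxD⟩
  rw [← TopCat.Presheaf.germ_res_apply G.presheaf (homOfLE (inf_le_left : W ⊓ D ≤ W)) x ⟨hx, hxD⟩ s,
    GrothLib.Euler.eq_zero_of_frame_of_germ_generic he inf_le_right hη
      (G.presheaf.map (homOfLE (inf_le_left : W ⊓ D ≤ W)).op s)
      ((TopCat.Presheaf.germ_res_apply G.presheaf _ _ hη s).trans (h hη.1)), map_zero]

theorem GenDet.biprod {A B : X.Modules} (hA : GenDet A) (hB : GenDet B) : GenDet (A ⊞ B) := by
  intro W s h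
  refine GrothLib.QCoh.section_eq_zero_of_germ _ s fun x hx => ?_
  have h1 : (biprod.fst : A ⊞ B ⟶ A).app W s = 0 := hA W _ fun hη => by
    rw [← GrothLib.QCoh.stalkLin_germ, h hη, map_zero]
  have h2 : (biprod.snd : A ⊞ B ⟶ B).app W s = 0 := hB W _ fun hη => by
    rw [← GrothLib.QCoh.stalkLin_germ, h hη, map_zero]
  have e1 : stalkLin (biprod.fst : A ⊞ B ⟶ A) x ((A ⊞ B).presheaf.germ W x hx s) = 0 := by
    rw [GrothLib.QCoh.stalkLin_germ, h1, map_zero]
  have e2 : stalkLin (biprod.snd : A ⊞ B ⟶ B) x ((A ⊞ B).presheaf.germ W x hx s) = 0 := by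
    rw [GrothLib.QCoh.stalkLin_germ, h2, map_zero]
  rw [← GrothLib.QCoh.biprod_stalk_total A B x ((A ⊞ B).presheaf.germ W x hx s), e1, e2, map_zero, map_zero, add_zero]

theorem mono_of_generic {G F : X.Modules} (hG : GenDet G) (φ : G ⟶ F)
    (h : Function.Injective (stalkLin φ (genericPoint X))) : Mono φ := by
  refine GrothLib.QCoh.mono_of_app_injective _ fun W => (injective_iff_map_eq_zero _).2 fun s hs => hG W s fun hη => ?_
  refine h ?_
  rw [map_zero, GrothLib.QCoh.stalkLin_germ, hs, map_zero]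

variable (k : Type u) [Field k] [X.Over (Spec (CommRingCat.of k))] [IsProper (X ↘ Spec (CommRingCat.of k))]

/-- A model of a module by copies of one invertible module, up to a given rank. -/
theorem exists_model {F P : X.Modules} (hF : Coh.IsCoh F) (hP : PicF.IsInvertible P) {N : ℕ}
    (p : (∐ fun _ : Fin N => P) ⟶ F) [Epi p] : ∀ j : ℕ, j ≤ GrothLib.Euler.grank F →
    ∃ (G : X.Modules) (φ : G ⟶ F), Mono φ ∧ Coh.IsCoh G ∧ GenDet G ∧ GrothLib.Euler.grank G = j ∧
      ∀ (v : Pic X) (i : ℕ), hf k G v i = j * hf k P v i := by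
  haveI := GrothLib.Euler.isNoetherian_of_proper (X := X) k
  have hP1 := GrothLib.Euler.isFinLocFreeOfRank_one_of_invertible hP
  have hPc : Coh.IsCoh P := GrothLib.Euler.isCoh_of_isInvertible hP
  letI : Field (X.presheaf.stalk (genericPoint X)) := CurvePoints.isField_stalk_genericPoint.toField
  intro j
  induction j with
  | zero =>
    intro _
    have hz : IsZero (FlatMod.freeMod X 0) := GrothLib.Euler.isZero_freeMod_zero X
    have hzc : Coh.IsCoh (FlatMod.freeMod X 0) := GrothLib.Euler.isCoh_of_isZero hz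
    have hs : ∀ W, Subsingleton Γ(FlatMod.freeMod X 0, W) := fun W => subsingleton_of_forall_eq 0 fun s =>
      GrothLib.QCoh.section_eq_zero_of_germ _ s fun x _ =>
        (ModuleCat.isZero_iff_subsingleton.1 ((OX.stalk x).map_isZero hz)).elim _ _
    refine ⟨_, 0, ⟨fun g g' _ => hz.eq_of_tgt g g'⟩, hzc, fun W s _ => (hs W).elim _ _,
      (by
      refine GrothLib.Euler.grank_eq_zero_of_notMem fun h => h ?_
      exact ModuleCat.isZero_iff_subsingleton.1 ((OX.stalk (genericPoint X)).map_isZero hz)), fun v i => ?_⟩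
    rw [zero_mul]
    have hz' : IsZero (tw (FlatMod.freeMod X 0) v) := (tF (rep v)).map_isZero hz
    show Module.finrank k (Coh.HH X (tw (FlatMod.freeMod X 0) v) i) = 0
    haveI : Subsingleton (Coh.HH X (tw (FlatMod.freeMod X 0) v) i) := subsingleton_of_forall_eq 0 fun x => by
      rw [← Euler.hhMap_id (A := k) (tw (FlatMod.freeMod X 0) v) i x, hz'.eq_of_src (𝟙 _) 0,
        SerrePn27.hhMap_zero, LinearMap.zero_apply]
    exact Module.finrank_zero_of_subsingleton
  | succ j ih =>
    intro hj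
    obtain ⟨G, φ, hφ, hG, hGd, hGr, hGf⟩ := ih (by omega)
    haveI := hφ
    haveI := GrothLib.Euler.stalk_finite hF (genericPoint X)
    haveI := GrothLib.Euler.stalk_finite hG (genericPoint X)
    have hinj := GrothLib.QCoh.stalkLin_injective φ (genericPoint X)
    let S := LinearMap.range (stalkLin φ (genericPoint X))
    have hS : S ≠ ⊤ := fun h => by
      have h1 := LinearMap.finrank_range_of_inj hinj
      rw [show LinearMap.range (stalkLin φ (genericPoint X)) = ⊤ from h, finrank_top] at h1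
      have : GrothLib.Euler.grank F = GrothLib.Euler.grank G := h1
      omega
    obtain ⟨l, t, ht⟩ : ∃ l t, stalkLin (Sigma.ι (fun _ : Fin N => P) l ≫ p) (genericPoint X) t ∉ S := by
      by_contra hne
      push_neg at hne
      refine hS (eq_top_iff.2 fun y _ => ?_)
      obtain ⟨e, rfl⟩ := GrothLib.QCoh.stalkLin_surjective p (genericPoint X) y
      exact stalkLin_mem_of_sigma p _ S hne e
    let q : P ⟶ F := Sigma.ι (fun _ : Fin N => P) l ≫ p
    have hd : GenDet (G ⊞ P) := hGd.biprod (genDet_of_locFree hP1)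
    have h1 : GrothLib.Euler.grank P = 1 := GrothLib.Euler.grank_of_locFree hP1
    have hq : ∀ b, stalkLin q (genericPoint X) b ∈ S → b = 0 := by
      intro b hb
      by_contra hb0
      obtain ⟨c, hc⟩ := exists_smul_eq_of_finrank_eq_one (K := X.presheaf.stalk (genericPoint X)) h1 hb0 t
      refine ht ?_
      rw [← hc, map_smul]
      exact S.smul_mem c hb
    have hi : Function.Injective (stalkLin (biprod.desc φ q) (genericPoint X)) := by
      refine (injective_iff_map_eq_zero _).2 fun e he => ?_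
      rw [← GrothLib.QCoh.biprod_stalk_total G P _ e] at he ⊢
      rw [map_add, ← GrothLib.QCoh.stalkLin_comp (biprod.inl : G ⟶ G ⊞ P),
        ← GrothLib.QCoh.stalkLin_comp (biprod.inr : P ⟶ G ⊞ P), biprod.inl_desc, biprod.inr_desc] at he
      have hb := hq _ ⟨- _, by rw [map_neg]; exact neg_eq_of_add_eq_zero_right he⟩
      rw [hb, map_zero, add_zero] at he
      rw [hb, hinj (he.trans (map_zero _).symm), map_zero, map_zero, add_zero]
    let Sq := ShortComplex.mk (biprod.inl : G ⟶ G ⊞ P) biprod.snd (by simp)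
    have hmid : Coh.IsCoh (G ⊞ P) := GrothLib.QCoh.isCoh_biprod' hG hPc
    have hr := GrothLib.Euler.grank_additive (S := Sq) (ShortComplex.Splitting.ofHasBinaryBiproduct _ _).shortExact hmid
    refine ⟨G ⊞ P, biprod.desc φ q, mono_of_generic hd _ hi, hmid, hd, ?_, fun v i => ?_⟩
    · simp only [Sq] at hr
      rw [hr, hGr, h1]
    · rw [hf_biprod k hG hPc, hGf]
      ring

variable {k}

/-- The upper limit of a module of generic rank `r` is `r` times that of the structure sheaf. -/
theorem limsup_eq_rank_mul {H : X.Modules} (hH : CohB1.IsAmple H) {n : ℕ} (hn : topologicalKrullDim X = n)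
    {F : X.Modules} (hF : Coh.IsCoh F) (x : Pic X) (i : ℕ) :
    limsup (sq k F x n i) atTop =
      (GrothLib.Euler.grank F : ℝ) * limsup (sq k (Coh.structureModule X) x n i) atTop := by
  haveI := GrothLib.Euler.isNoetherian_of_proper (X := X) k
  obtain ⟨M, hM, hHM⟩ := GrothLib.ResProp22.exists_inverse hH.1
  obtain ⟨e, N, E, p, -, hp, -, ⟨α⟩⟩ := GrothLib.AmpleCd10.exists_epi hH
    (show ClSub.IsInverseOf M H from ⟨GrothLib.GrTilde.tensorModComm M H ≪≫ hHM.some⟩) F hF 0
  haveI := hp
  have hP : PicF.IsInvertible (CohB1.tensorPow M e) := GrothLib.Ample.isInvertible_tensorPow hM e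
  haveI : Epi (α.inv ≫ p) := epi_comp _ _
  obtain ⟨G, φ, hφ, hG, -, hGr, hGf⟩ :=
    exists_model k hF hP (α.inv ≫ p) (GrothLib.Euler.grank F) le_rfl
  haveI := hφ
  have hdim : ∀ {S : Set X}, DimLT S (n + 1) := fun {S} => dimLT_support_of_dim hn
  have hQ : Coh.IsCoh (cokernel φ) := GrothLib.QCoh.isCoh_cokernel φ hG hF
  have hQd : DimLT (CohB1.support (cokernel φ)) n := by
    refine GrothLib.Snapper.dimLT_of_notMem (η := genericPoint X) hdim ?_
      (GrothLib.QCoh.notMem_support_cokernel_of_surjective φ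
        (GrothLib.Euler.surjective_generic_of_mono φ hF hGr))
    rw [(genericPoint_spec X).def]
    exact Set.subset_univ _
  have hS : (ShortComplex.mk φ (cokernel.π φ) (cokernel.condition φ)).ShortExact :=
    { exact := ShortComplex.exact_of_g_is_cokernel _ (cokernelIsCokernel φ) }
  have e1 : limsup (sq k F x n i) atTop = limsup (sq k G x n i) atTop := by
    refine limsup_eq_of_small hH hF hG hdim hdim hQ hQd x i fun v => ⟨?_, ?_⟩
    · have := (hf_ses k hS hG hF hQ v i).1
      simp only at this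
      omega
    · rcases Nat.eq_zero_or_pos i with rfl | hi
      · have := (hf_ses k hS hG hF hQ v 0).2.2.2
        simp only at this
        omega
      · have := (hf_ses k hS hG hF hQ v (i - 1)).2.2.1
        simp only [Nat.sub_add_cancel hi] at this
        omega
  let z := clsMod hP
  have e2 : ∀ m, sq k G x n i m = (GrothLib.Euler.grank F : ℝ) *
      sq k (tw (Coh.structureModule X) z) x n i m := fun m => by
    have hPz : hf k (tw (Coh.structureModule X) z) (x ^ m) i = hf k (CohB1.tensorPow M e) (x ^ m) i := by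
      obtain ⟨β⟩ := GrothLib.Snapper.tw_iso (F := Coh.structureModule X) (hasCls_clsMod hP)
      exact GrothLib.Snapper.hf_iso k (β ≪≫ GrothLib.GrTilde.tensorModComm (Coh.structureModule X) _ ≪≫
        GrothLib.Euler.tFUnitIso _) _ _
    simp only [sq, hGf, hPz]
    push_cast
    ring
  have hO := isCoh_structure (X := X) k
  have hbd := sq_bounded (k := k) hH (GrothLib.Snapper.isCoh_tw k hO z) hdim x i
  have e3 : limsup (sq k G x n i) atTop =
      (GrothLib.Euler.grank F : ℝ) * limsup (sq k (tw (Coh.structureModule X) z) x n i) atTop := by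
    rw [show sq k G x n i = fun m => (GrothLib.Euler.grank F : ℝ) * sq k (tw (Coh.structureModule X) z) x n i m from
      funext e2]
    exact ((monotone_mul_left_of_nonneg (Nat.cast_nonneg _)).map_limsup_of_continuousAt
      (F := atTop) _ (continuous_const.mul continuous_id).continuousAt hbd
      (isCoboundedUnder_le_of_le atTop fun j => sq_nonneg k _ x n i _)).symm
  have e4 : limsup (sq k (tw (Coh.structureModule X) z) x n i) atTop =
      limsup (sq k (Coh.structureModule X) x n i) atTop := by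
    obtain ⟨C, hC0, hC⟩ := exists_lipschitz k hH hO hdim ![x, z] i
    refine limsup_eq_of_tendsto (sq_nonneg k _ _ _ _) (sq_nonneg k _ _ _ _) hbd (sq_bounded hH hO hdim x i)
      (tendsto_const_div_natCast (C * 5 ^ (n - 1) * n.factorial)) (eventually_atTop.2 ⟨1, fun m hm => ?_⟩)
    obtain ⟨h1, h2⟩ := hC ![(m : ℤ), 1] ![(m : ℤ), 0]
    simp only [Fin.prod_univ_two, Matrix.cons_val_zero, Matrix.cons_val_one, zpow_natCast, zpow_one, zpow_zero,
      mul_one, GrothLib.GrowthBd.wt, Fin.sum_univ_two] at h1 h2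
    have hm' : (0 : ℝ) < m := by exact_mod_cast hm
    have h3 := abs_sub_le_of_le h1 h2
    simp only [sq, GrothLib.Snapper.hf_twist]
    rw [mul_comm z, ← sub_div, ← sub_mul, abs_div, abs_mul, abs_of_nonneg (by positivity : (0 : ℝ) ≤ (n.factorial : ℝ)),
      abs_of_nonneg (by positivity : (0 : ℝ) ≤ (m : ℝ) ^ n), div_le_iff₀ (by positivity)]
    refine (mul_le_mul_of_nonneg_right h3 (Nat.cast_nonneg _)).trans ?_
    rcases Nat.eq_zero_or_pos n with h0 | h0
    · simp [hC0 h0]
    simp
    have hw : ((m : ℝ) + 1 + 1 + (m + 1)) ≤ 5 * m := by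
      have : (1 : ℝ) ≤ m := by exact_mod_cast hm
      linarith
    calc _ ≤ (C : ℝ) * (5 * m) ^ (n - 1) * n.factorial := by gcongr
      _ = C * 5 ^ (n - 1) * n.factorial / m * ((m : ℝ) ^ (n - 1) * m) := by field_simp; ring
      _ = _ := by rw [← pow_succ, Nat.sub_add_cancel h0]
  rw [e1, e3, e4]

end GrothLib.AsympCoh5
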