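import Groth.Agent.Lib.AsympCoh5.Rank
import Groth.Agent.Lib.AsympCoh5.Pull

/-!
# Sections of pullbacks along generically finite morphisms, with an error term
-/

set_option autoImplicit false
set_option linter.all false
set_option backward.isDefEq.respectTransparency false
set_option maxHeartbeats 800000

universe u

open CategoryTheory CategoryTheory.Limits AlgebraicGeometry TopologicalSpace Filter Topology

noncomputable section

namespace GrothLib.AsympCoh5

open GrothLib.Euler (tF)
open GrothLib.Snapper (DimLT tw hf IsTop)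
open GrothLib.Cube (Pic clsMod HasCls hasCls_clsMod)

variable {X : Scheme.{u}} [AlgebraicGeometry.IsIntegral X] {k : Type u} [Field k]
  [X.Over (Spec (CommRingCat.of k))] [IsProper (X ↘ Spec (CommRingCat.of k))]

/-- The sections of a module of generic rank `r` differ from `r` times those of the structure sheaf in lower
order. -/
theorem exists_rank_err {H : X.Modules} (hH : CohB1.IsAmple H) {n : ℕ} (hn : topologicalKrullDim X = n)
    {F : X.Modules} (hF : Coh.IsCoh F) (x : Pic X) :
    ∃ C : ℕ, ∀ m : ℕ, 1 ≤ m →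
      hf k F (x ^ m) 0 ≤ GrothLib.Euler.grank F * hf k (Coh.structureModule X) (x ^ m) 0 + C * m ^ (n - 1) ∧
      GrothLib.Euler.grank F * hf k (Coh.structureModule X) (x ^ m) 0 ≤ hf k F (x ^ m) 0 + C * m ^ (n - 1) := by
  haveI := GrothLib.Euler.isNoetherian_of_proper (X := X) k
  obtain ⟨M, hM, hHM⟩ := GrothLib.ResProp22.exists_inverse hH.1
  obtain ⟨e, N, E, p, -, hp, -, ⟨α⟩⟩ := GrothLib.AmpleCd10.exists_epi hH
    (show ClSub.IsInverseOf M H from ⟨GrothLib.GrTilde.tensorModComm M H ≪≫ hHM.some⟩) F hF 0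
  haveI := hp
  have hP : PicF.IsInvertible (CohB1.tensorPow M e) := GrothLib.Ample.isInvertible_tensorPow hM e
  haveI : Epi (α.inv ≫ p) := epi_comp _ _
  obtain ⟨G, φ, hφ, hG, -, hGr, hGf⟩ :=
    exists_model k hF hP (α.inv ≫ p) (GrothLib.Euler.grank F) le_rfl
  haveI := hφ
  have hdim : ∀ {S : Set X}, DimLT S (n + 1) := fun {S} => dimLT_support_of_dim hn
  have hQ : Coh.IsCoh (cokernel φ) := GrothLib.QCoh.isCoh_cokernel φ hG hF
  have hQd : DimLT (CohB1.support (cokernel φ)) n := by
    refine GrothLib.Snapper.dimLT_of_notMem (η := genericPoint X) hdim ?_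
      (GrothLib.QCoh.notMem_support_cokernel_of_surjective φ
        (GrothLib.Euler.surjective_generic_of_mono φ hF hGr))
    rw [(genericPoint_spec X).def]
    exact Set.subset_univ _
  have hS : (ShortComplex.mk φ (cokernel.π φ) (cokernel.condition φ)).ShortExact :=
    { exact := ShortComplex.exact_of_g_is_cokernel _ (cokernelIsCokernel φ) }
  obtain ⟨C₁, -, hC₁⟩ := exists_bound_small k hH hQ hQd (fun _ : Fin 1 => x)
  let z := clsMod hP
  have hO := isCoh_structure (X := X) k
  obtain ⟨C₂, -, hC₂⟩ := exists_lipschitz k hH hO hdim ![x, z] 0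
  refine ⟨C₁ * 2 ^ (n - 1) + GrothLib.Euler.grank F * (C₂ * 5 ^ (n - 1)), fun m hm => ?_⟩
  have hq : hf k (cokernel φ) (x ^ m) 0 ≤ C₁ * 2 ^ (n - 1) * m ^ (n - 1) := by
    have := hC₁ 0 (fun _ => (m : ℤ))
    simp only [zpow_natCast, Finset.univ_unique, Finset.prod_singleton] at this
    rw [mul_assoc, ← mul_pow]
    refine this.trans (Nat.mul_le_mul_left _ (Nat.pow_le_pow_left ?_ _))
    simp [GrothLib.GrowthBd.wt]
    omega
  obtain ⟨s1, -, -, s4⟩ := hf_ses k hS hG hF hQ (x ^ m) 0
  simp only at s1 s4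
  have hPz : hf k (CohB1.tensorPow M e) (x ^ m) 0 = hf k (Coh.structureModule X) (x ^ m * z) 0 := by
    obtain ⟨β⟩ := GrothLib.Snapper.tw_iso (F := Coh.structureModule X) (hasCls_clsMod hP)
    rw [mul_comm (x ^ m) z, ← GrothLib.Snapper.hf_twist]
    exact (GrothLib.Snapper.hf_iso k (β ≪≫ GrothLib.GrTilde.tensorModComm (Coh.structureModule X) _ ≪≫
        GrothLib.Euler.tFUnitIso _) _ _).symm
  obtain ⟨h1, h2⟩ := hC₂ ![(m : ℤ), 1] ![(m : ℤ), 0]
  simp only [Fin.prod_univ_two, Matrix.cons_val_zero, Matrix.cons_val_one, zpow_natCast, zpow_one, zpow_zero,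
    mul_one, GrothLib.GrowthBd.wt, Fin.sum_univ_two] at h1 h2
  simp at h1 h2
  have hl : ∀ w : ℕ, w ≤ 5 * m → C₂ * w ^ (n - 1) ≤ C₂ * 5 ^ (n - 1) * m ^ (n - 1) := fun w hw => by
    rw [mul_assoc, ← mul_pow]
    exact Nat.mul_le_mul_left _ (Nat.pow_le_pow_left hw _)
  have hb : hf k (Coh.structureModule X) (x ^ m * z) 0 ≤
      hf k (Coh.structureModule X) (x ^ m) 0 + C₂ * 5 ^ (n - 1) * m ^ (n - 1) ∧
      hf k (Coh.structureModule X) (x ^ m) 0 ≤
        hf k (Coh.structureModule X) (x ^ m * z) 0 + C₂ * 5 ^ (n - 1) * m ^ (n - 1) :=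
    ⟨h1.trans (Nat.add_le_add_left (hl _ (by omega)) _), h2.trans (Nat.add_le_add_left (hl _ (by omega)) _)⟩
  have hGm := hGf (x ^ m) 0
  rw [hPz] at hGm
  refine ⟨?_, ?_⟩
  · have := Nat.mul_le_mul_left (GrothLib.Euler.grank F) hb.1
    rw [Nat.mul_add, ← Nat.mul_assoc] at this
    rw [Nat.add_mul]
    omega
  · have := Nat.mul_le_mul_left (GrothLib.Euler.grank F) hb.2
    rw [Nat.mul_add, ← Nat.mul_assoc] at this
    rw [Nat.add_mul]
    omega

variable {Y : Scheme.{u}} [AlgebraicGeometry.IsIntegral Y] [Y.Over (Spec (CommRingCat.of k))]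
  [IsProper (Y ↘ Spec (CommRingCat.of k))] {f : Y ⟶ X}
  (hf' : f ≫ X ↘ Spec (CommRingCat.of k) = Y ↘ Spec (CommRingCat.of k))

include hf' in
/-- Sections of pullbacks along a generically finite morphism. -/
theorem exists_pullback_err {H : X.Modules} (hH : CohB1.IsAmple H) {n : ℕ} (hn : topologicalKrullDim X = n)
    (hdom : f.base (genericPoint Y) = genericPoint X) {d : ℕ} (hd : f.residueDegree (genericPoint Y) = d)
    (hd0 : 1 ≤ d) (x : Pic X) :
    ∃ C : ℕ, ∀ m : ℕ, 1 ≤ m →
      hf k (Coh.structureModule Y) (GrothLib.Cube.pull f (x ^ m)) 0 ≤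
          d * hf k (Coh.structureModule X) (x ^ m) 0 + C * m ^ (n - 1) ∧
        d * hf k (Coh.structureModule X) (x ^ m) 0 ≤
          hf k (Coh.structureModule Y) (GrothLib.Cube.pull f (x ^ m)) 0 + C * m ^ (n - 1) := by
  haveI : IsProper (f ≫ X ↘ Spec (CommRingCat.of k)) := by rw [hf']; infer_instance
  haveI : IsProper f := IsProper.of_comp f (X ↘ Spec (CommRingCat.of k))
  haveI := GrothLib.Euler.isNoetherian_of_proper (X := X) k
  obtain ⟨e, he⟩ := AffDom.exists_nat_ptDim (Y ↘ Spec (CommRingCat.of k)) (genericPoint Y)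
  have he' : topologicalKrullDim Y = e := by
    rw [← he]
    show topologicalKrullDim Y = topologicalKrullDim (closure ({genericPoint Y} : Set Y))
    rw [(genericPoint_spec Y).def]
    exact ((IsHomeomorph.topologicalKrullDim_eq _ (Homeomorph.Set.univ Y).isHomeomorph)).symm
  have htop : IsTop e (f (genericPoint Y)) := by
    by_contra hc
    have := GrothLib.Snapper.residueDegree_eq_zero hf' he' hc
    omega
  obtain rfl : e = n := by
    have h : topologicalKrullDim (closure ({genericPoint X} : Set X)) = (e : WithBot ℕ∞) := by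
      rw [← hdom]; exact htop
    rw [(genericPoint_spec X).def] at h
    exact_mod_cast (h.symm.trans ((IsHomeomorph.topologicalKrullDim_eq _ (Homeomorph.Set.univ X).isHomeomorph).trans hn))
  have hR := GrothLib.Snapper.rpush_structure hf' he'
  have hhi : ∀ j, 1 ≤ j → DimLT (CohB1.support (RO f j)) e := by
    intro j hj
    refine GrothLib.Snapper.dimLT_of_notMem (η := f (genericPoint Y))
      (GrothLib.Snapper.dimLT_image hf' he') (hR j).2.1 fun hmem => ?_
    have h0 := (hR j).2.2 htop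
    rw [if_neg (by omega)] at h0
    haveI := GrothLib.Euler.stalk_finite (hR j).1 (f (genericPoint Y))
    rw [hdom] at hmem h0
    letI : Field (X.presheaf.stalk (genericPoint X)) := CurvePoints.isField_stalk_genericPoint.toField
    haveI := GrothLib.Euler.stalk_finite (hR j).1 (genericPoint X)
    rw [GrothLib.Snapper.mult, Module.length_eq_finrank] at h0
    simp only [ENat.toNat_coe] at h0
    exact hmem (Module.finrank_zero_iff.1 h0)
  have hrank : GrothLib.Euler.grank (RO f 0) = d := by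
    have h0 := (hR 0).2.2 htop
    rw [if_pos rfl, hd, hdom] at h0
    letI : Field (X.presheaf.stalk (genericPoint X)) := CurvePoints.isField_stalk_genericPoint.toField
    haveI := GrothLib.Euler.stalk_finite (hR 0).1 (genericPoint X)
    rw [GrothLib.Snapper.mult, Module.length_eq_finrank] at h0
    simpa [GrothLib.Euler.grank] using h0
  obtain ⟨C, -, hC⟩ := exists_err_bound hf' hH (d := e) x 0 hhi
  obtain ⟨C', hC'⟩ := exists_rank_err (k := k) hH hn (hR 0).1 x
  rw [hrank] at hC'
  refine ⟨3 * (C * 2 ^ (e - 1)) + C', fun m hm => ?_⟩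
  obtain ⟨h1, h2⟩ := hf_pullback_bound hf' (x ^ m) 0
  have h3 := hC m hm
  rw [mul_pow, ← mul_assoc] at h3
  obtain ⟨h4, h5⟩ := hC' m hm
  have h4' : hf k (RO f 0) (x ^ m) 0 ≤ d * hf k (Coh.structureModule X) (x ^ m) 0 + C' * m ^ (e - 1) := h4
  have h5' : d * hf k (Coh.structureModule X) (x ^ m) 0 ≤ hf k (RO f 0) (x ^ m) 0 + C' * m ^ (e - 1) := h5
  rw [Nat.add_mul, Nat.mul_assoc 3]
  constructor <;> omega

end GrothLib.AsympCoh5
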