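import Groth.Agent.Lib.AsympCoh5.Hhat
import Groth.Agent.Lib.NefGrowth.Growth
import Groth.Agent.Lib.SecDeg26.Degree
import Groth.Agent.Lib.Hilb20.Integral
import Groth.Prelude.Def_W4c5asymptcohfnACF

/-!
# Growth above the dimension of the stable base locus
-/

set_option autoImplicit false
set_option linter.all false
set_option backward.isDefEq.respectTransparency false
set_option maxHeartbeats 800000

universe u

open CategoryTheory CategoryTheory.Limits AlgebraicGeometry TopologicalSpace

noncomputable section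

namespace GrothLib.AsympCoh5

open GrothLib.Euler (tF)
open GrothLib.Snapper (DimLT hf)
open GrothLib.Cube (Pic clsMod)
open GrothLib.NefGrowth (Gr hl hc hl_iso hl_X₂_le hl_X₁_le hl_small_zero gr_mono exists_quot le_of_step' hl_eq_hc
  nonempty_tF_push stalk_surjective_piece)

variable {X : Scheme.{u}}

/-- Every point has a power with a generating section or spans a small closed set. -/
def GenOrSmall (L : X.Modules) (b : ℕ) : Prop :=
  ∀ x : X, DimLT (closure ({x} : Set X)) (b + 1) ∨
    ∃ (m : ℕ) (s : Coh.structureModule X ⟶ CohB1.tensorPow L (m + 1)), x ∈ CohB1.genLocus _ s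

theorem dimLT_closure_of_closedImmersion {Z : Scheme.{u}} (i : Z ⟶ X) [IsClosedImmersion i] {z : Z} {d : ℕ}
    (h : DimLT (closure ({i z} : Set X)) d) : DimLT (closure ({z} : Set Z)) d := fun l hl => by
  have hmono : StrictMono (fun w : Z => i w) := fun a c hac =>
    lt_of_le_not_ge (hac.le.map i.continuous) fun h' =>
      hac.not_ge (i.isClosedEmbedding.isEmbedding.isInducing.specializes_iff.1 h')
  refine (h (l.map _ hmono) fun j => ?_)
  exact map_mem_closure (f := fun w : Z => i w) i.continuous (hl j) fun y hy => congrArg (fun w => i w) hy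

theorem GenOrSmall.pullback {Z : Scheme.{u}} (i : Z ⟶ X) [IsClosedImmersion i] {L : X.Modules} {b : ℕ}
    (hL : PicF.IsInvertible L) (h : GenOrSmall L b) : GenOrSmall ((Scheme.Modules.pullback i).obj L) b := by
  intro z
  rcases h (i z) with hs | ⟨m, s, hs⟩
  · exact Or.inl (dimLT_closure_of_closedImmersion i hs)
  · refine Or.inr ⟨m, ?_⟩
    obtain ⟨e⟩ := Ample.nonempty_pullback_structureModule i
    obtain ⟨α⟩ := Ample.nonempty_pullback_tensorPow i hL (m + 1)
    refine ⟨(e.inv ≫ (Scheme.Modules.pullback i).map s) ≫ α.hom, ?_⟩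
    rw [Ample.genLocus_comp_iso α]
    exact (Ample.genLocus_pullback i _ (Ample.isInvertible_tensorPow hL (m + 1)) s e.symm).ge hs

variable (k : Type u) [Field k] [X.Over (Spec (CommRingCat.of k))] [IsProper (X ↘ Spec (CommRingCat.of k))]

/-- The statement on all proper schemes with an ample module. -/
def GrB (b d : ℕ) : Prop :=
  ∀ (X : Scheme.{u}) [X.Over (Spec (CommRingCat.of k))] [IsProper (X ↘ Spec (CommRingCat.of k))]
    (A L : X.Modules), CohB1.IsAmple A → PicF.IsInvertible L → GenOrSmall L b →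
    ∀ F : X.Modules, Coh.IsCoh F → DimLT (CohB1.support F) (d + 1) → ∀ l, b < l → Gr k L F l (d - 1)

variable {k}

theorem gr_structure_base [AlgebraicGeometry.IsIntegral X] {b d : ℕ} (ih : GrB k b d)
    (hX : DimLT (Set.univ : Set X) (d + 1 + 1)) {A L : X.Modules} (hA : CohB1.IsAmple A)
    (hL : PicF.IsInvertible L) (hgs : GenOrSmall L b) {l : ℕ} (hl1 : b < l)
    (hgen : ∃ (m : ℕ) (s : Coh.structureModule X ⟶ CohB1.tensorPow L (m + 1)),
      genericPoint X ∈ CohB1.genLocus _ s) : ∃ C : ℕ, ∀ n : ℕ, hc k (clsMod hL ^ n) l ≤ C * (n + 1) ^ d := by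
  haveI := Euler.isNoetherian_of_proper (X := X) k
  obtain ⟨m, s, hs⟩ := hgen
  haveI := Hilb20.mono_of_mem_genLocus s hs
  have hle : Kodaira.PLe (1 : Pic X) (clsMod hL ^ (m + 1)) := by
    rw [← Cube.clsMod_tensorPow hL,
      ← (Cube.clsMod_eq_one_iff (Euler.isInvertible_structure (X := X))).2 ⟨Iso.refl _⟩]
    exact (Kodaira.pLe_iff _ _).2 ⟨s, inferInstance⟩
  obtain ⟨Q, hQ, hQd, h⟩ := exists_quot k hX hL hle
  obtain ⟨C, hC⟩ := ih X A L hA hL hgs Q hQ hQd l hl1
  refine le_of_step' (Nat.succ_pos m) (fun n => ?_) hC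
    (fun h0 n => hl_small_zero hA hL hQ (by subst h0; exact hQd) (by omega) n)
  have e := (h n l).1
  rw [one_mul, ← pow_add, add_comm (m + 1) n] at e
  exact e

variable (k) in
theorem grB (b d : ℕ) : GrB k b d := by
  induction d with
  | zero =>
    intro X _ _ A L hA hL hgs F hF hd l hl1
    exact ⟨0, fun n => (hl_small_zero hA hL hF hd (by omega) n).le.trans (by simp)⟩
  | succ d ih =>
    intro X _ _ A L hA hL hgs F hF hd
    haveI := Euler.isNoetherian_of_proper (X := X) k
    refine QCoh.coh_induction (fun M => ∀ l, b < l → Gr k L M l (d + 1 - 1)) ?_ ?_ ?_ F hF ?_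
    · rintro M N ⟨e⟩ h l hl1
      obtain ⟨C, hC⟩ := h l hl1
      exact ⟨C, fun n => (hl_iso k ((tF _).mapIso e) l).symm.le.trans (hC n)⟩
    · intro M hM l hl1
      refine ⟨0, fun n => ?_⟩
      haveI := Cohom.subsingleton_HH_of_isZero ((tF (CohB1.tensorPow L n)).map_isZero hM) l
      exact (Module.finrank_zero_of_subsingleton).le.trans (Nat.zero_le _)
    · intro S hS a b' c h₁ h₃ l hl1
      obtain ⟨C₁, e₁⟩ := h₁ l hl1
      obtain ⟨C₃, e₃⟩ := h₃ l hl1
      refine ⟨C₁ + C₃, fun n => ?_⟩
      rw [Nat.add_mul]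
      exact (hl_X₂_le k (Snapper.shortExact_twist hL n hS) (Snapper.isCoh_twist k hL a n)
        (Snapper.isCoh_twist k hL b' n) (Snapper.isCoh_twist k hL c n) l).trans (Nat.add_le_add (e₁ n) (e₃ n))
    intro Z i hi hZ N ι hι hN hN0 hsub l hl1
    let P := (Coh.push i).obj N
    have hP : Coh.IsCoh P := HodgeIndex.isCoh_push_piece k i hN
    by_cases hsmall : DimLT (CohB1.support P) (d + 1)
    · exact gr_mono (by omega) (ih X A L hA hL hgs P hP hsmall l hl1)
    let η := i (genericPoint Z)
    have hcl : closure ({η} : Set X) = Set.range i := QCoh.closure_singleton_eq_range i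
    rcases hgs η with hbsmall | ⟨m, s, hs⟩
    · refine ⟨0, fun n => ?_⟩
      haveI := HodgeIndex.subsingleton_HH_of_dimLT k hA (b + 1) _ (Snapper.isCoh_twist k hL hP n)
        ((hbsmall.mono (hcl ▸ QCoh.support_pushforward_subset_range i _)).mono
          (Snapper.support_twist_subset hL n)) l hl1
      exact (Module.finrank_zero_of_subsingleton).le.trans (Nat.zero_le _)
    have hη : DimLT (closure ({η} : Set X)) (d + 1 + 1) :=
      (hd.mono hsub).mono ((QCoh.isClosed_support_of_isCoh hP).closure_subset_iff.2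
        (Set.singleton_subset_iff.2 (QCoh.genericPoint_mem_support_push i N ι hN0)))
    letI : Z.Over (Spec (CommRingCat.of k)) := ⟨i ≫ X ↘ Spec (CommRingCat.of k)⟩
    haveI : IsProper (Z ↘ Spec (CommRingCat.of k)) := inferInstanceAs (IsProper (i ≫ X ↘ Spec (CommRingCat.of k)))
    haveI := hZ
    have hZd : DimLT (Set.univ : Set Z) (d + 1 + 1) := by
      refine Kleiman.dimLT_univ ((IsHomeomorph.topologicalKrullDim_eq _
        i.isClosedEmbedding.isEmbedding.toHomeomorph.isHomeomorph).le.trans ?_)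
      rw [← hcl]
      exact Snapper.dim_le_of_dimLT isClosed_closure hη
    have hO : Coh.IsCoh (Coh.structureModule Z) := Kleiman.isCoh_O (X := Z) k
    let P₀ := (Coh.push i).obj (Coh.structureModule Z)
    have hP₀ : Coh.IsCoh P₀ := HodgeIndex.isCoh_push_piece k i hO
    have hL' := Kleiman.isInv_pullback i hL
    have hgen : ∃ (m' : ℕ) (s' : Coh.structureModule Z ⟶ CohB1.tensorPow ((Scheme.Modules.pullback i).obj L) (m' + 1)),
        genericPoint Z ∈ CohB1.genLocus _ s' := by
      obtain ⟨e⟩ := Ample.nonempty_pullback_structureModule i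
      obtain ⟨α⟩ := Ample.nonempty_pullback_tensorPow i hL (m + 1)
      refine ⟨m, (e.inv ≫ (Scheme.Modules.pullback i).map s) ≫ α.hom, ?_⟩
      rw [Ample.genLocus_comp_iso α]
      exact (Ample.genLocus_pullback i _ (Ample.isInvertible_tensorPow hL (m + 1)) s e.symm).ge hs
    have h0gr : Gr k L P₀ l d := by
      obtain ⟨C, hC⟩ := gr_structure_base ih hZd (Ample.isAmple_pullback_of_isAffineHom i hA) hL'
        (hgs.pullback i hL) hl1 hgen
      refine ⟨C, fun n => ?_⟩
      obtain ⟨e⟩ := nonempty_tF_push i hL n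
      haveI := (Euler.isCoh_of_isInvertible (Ample.isInvertible_tensorPow hL' n) :
        Coh.IsCoh (CohB1.tensorPow ((Scheme.Modules.pullback i).obj L) n)).1
      obtain ⟨e'⟩ := Snapper.nonempty_HH_linearEquiv_pushforward i rfl
        (CohB1.tensorPow ((Scheme.Modules.pullback i).obj L) n) l (A := k)
      rw [hl_iso k e l]
      refine (le_of_eq e'.symm.finrank_eq).trans ?_
      show hl k (CohB1.tensorPow ((Scheme.Modules.pullback i).obj L) n) l ≤ _
      rw [hl_eq_hc k (Ample.isInvertible_tensorPow hL' n) (Cube.clsMod_tensorPow hL' n)]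
      exact hC n
    let f : P ⟶ P₀ := (Coh.push i).map ι
    haveI : Mono f := (inferInstance : Mono ((Scheme.Modules.pushforward i).map ι))
    let Q := cokernel f
    have hQ : Coh.IsCoh Q := QCoh.isCoh_cokernel f hP hP₀
    let S : ShortComplex X.Modules := ShortComplex.mk f (cokernel.π f) (cokernel.condition f)
    have hS : S.ShortExact :=
      haveI : Mono S.f := ‹Mono f›
      haveI : Epi S.g := inferInstanceAs (Epi (cokernel.π f))
      { exact := ShortComplex.exact_of_g_is_cokernel _ (cokernelIsCokernel _) }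
    have hQd : DimLT (CohB1.support Q) (d + 1) :=
      Snapper.dimLT_of_notMem hη
        (hcl ▸ (QCoh.support_subset_of_epi (cokernel.π f)).trans (QCoh.support_pushforward_subset_range i _))
        (QCoh.notMem_support_cokernel_of_surjective f (stalk_surjective_piece i N ι hN0))
    obtain ⟨l, rfl⟩ : ∃ l', l = l' + 1 := ⟨l - 1, by omega⟩
    obtain ⟨C₀, hC₀⟩ := h0gr
    obtain ⟨C₁, hC₁⟩ : Gr k L Q l d := by
      obtain ⟨C, hC⟩ := GrothLib.GrowthBd.exists_bound_field k hA hQ hQd (fun _ : Fin 1 => clsMod hL)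
      refine ⟨C, fun n => ?_⟩
      have := hC l (fun _ => (n : ℤ))
      simp only [zpow_natCast, Finset.univ_unique, Finset.prod_singleton] at this
      obtain ⟨e⟩ := GrothLib.Snapper.tw_iso (F := Q) ((GrothLib.Cube.hasCls_clsMod hL).tensorPow n)
      rw [← hl_iso k e l]
      refine this.trans (le_of_eq ?_)
      simp [GrothLib.GrowthBd.wt]
    refine ⟨C₁ + C₀, fun n => ?_⟩
    rw [Nat.add_sub_cancel, Nat.add_mul]
    exact (hl_X₁_le k (Snapper.shortExact_twist hL n hS) (Snapper.isCoh_twist k hL hP n)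
      (Snapper.isCoh_twist k hL hP₀ n) (Snapper.isCoh_twist k hL hQ n) l).trans
        (Nat.add_le_add (hC₁ n) (hC₀ n))

open Filter Topology in
theorem limsup_eq_zero_of_stableBase [AlgebraicGeometry.IsIntegral X] {H : X.Modules} (hH : CohB1.IsAmple H)
    {n : ℕ} (hn : topologicalKrullDim X = n) {L : X.Modules} (hL : PicF.IsInvertible L) {b : ℕ}
    (hb : topologicalKrullDim ↥(W4c5asymptcohfn.stableBaseLocus X L) ≤ (b : WithBot ℕ∞)) {i : ℕ} (hi : b < i) :
    limsup (sq k (Coh.structureModule X) (clsMod hL) n i) atTop = 0 := by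
  haveI := Euler.isNoetherian_of_proper (X := X) k
  have hclosed : IsClosed (W4c5asymptcohfn.stableBaseLocus X L) := by
    refine isClosed_iInter fun m => ?_
    have : W4c5asymptcohfn.baseLocus X (CohB1.tensorPow L (m + 1)) =
        ⋂ s : Coh.structureModule X ⟶ CohB1.tensorPow L (m + 1), ((CohB1.genLocus _ s : X.Opens) : Set X)ᶜ := by
      ext x
      simp [W4c5asymptcohfn.baseLocus]
    rw [this]
    exact isClosed_iInter fun s => (CohB1.genLocus _ s).2.isClosed_compl
  have hgs : GenOrSmall L b := by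
    intro x
    by_cases hx : x ∈ W4c5asymptcohfn.stableBaseLocus X L
    · exact Or.inl ((Snapper.dimLT_of_dim_le hb).mono (hclosed.closure_subset_iff.2 (Set.singleton_subset_iff.2 hx)))
    · simp only [W4c5asymptcohfn.stableBaseLocus, W4c5asymptcohfn.baseLocus, Set.mem_iInter, Set.mem_setOf_eq,
        not_forall, not_not] at hx
      exact Or.inr hx
  obtain ⟨C, hC⟩ := grB k b n X H L hH hL hgs _ (isCoh_structure (X := X) k) (dimLT_support_of_dim hn) i hi
  have hb' : ∀ m, 1 ≤ m → sq k (Coh.structureModule X) (clsMod hL) n i m ≤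
      (C : ℝ) * 2 ^ (n - 1) * n.factorial / m := by
    intro m hm
    obtain ⟨e⟩ := GrothLib.Snapper.tw_iso (F := Coh.structureModule X) ((GrothLib.Cube.hasCls_clsMod hL).tensorPow m)
    rcases Nat.eq_zero_or_pos n with hn0 | hn0
    · have h0 := hl_small_zero (k := k) hH hL (isCoh_structure (X := X) k) (l := i)
        (by subst hn0; exact dimLT_support_of_dim hn) (by omega) m
      rw [← hl_iso k e i] at h0
      rw [sq, show hf k (Coh.structureModule X) (clsMod hL ^ m) i = 0 from h0]
      simp
      positivity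
    have h := hC m
    rw [← hl_iso k e i] at h
    have h' : (hf k (Coh.structureModule X) (clsMod hL ^ m) i : ℝ) ≤ (C : ℝ) * ((2 : ℝ) * m) ^ (n - 1) := by
      exact_mod_cast h.trans (Nat.mul_le_mul_left C (Nat.pow_le_pow_left (show m + 1 ≤ 2 * m by omega) _))
    have hm' : (0 : ℝ) < m := by exact_mod_cast hm
    rw [sq, div_le_iff₀ (by positivity)]
    refine (mul_le_mul_of_nonneg_right h' (Nat.cast_nonneg _)).trans (le_of_eq ?_)
    rw [mul_pow]
    calc _ = (C : ℝ) * 2 ^ (n - 1) * n.factorial / m * ((m : ℝ) ^ (n - 1) * m) := by field_simp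
      _ = _ := by rw [← pow_succ, Nat.sub_add_cancel hn0]
  exact (squeeze_zero' (Eventually.of_forall fun m => sq_nonneg k _ _ _ _ m) (eventually_atTop.2 ⟨1, hb'⟩)
    (tendsto_const_div_natCast _)).limsup_eq

end GrothLib.AsympCoh5
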