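import Groth.Agent.Lib.AsympCoh5.Main
import Groth.Agent.Lib.Kodaira.Volume
import Groth.Agent.Lib.HodgeIndex.Vanish
import Groth.Agent.Lib.SerreVanish.Ample

/-!
# Top degree asymptotic cohomology of big classes
-/

set_option autoImplicit false
set_option linter.all false
set_option backward.isDefEq.respectTransparency false

universe u

open CategoryTheory CategoryTheory.Limits AlgebraicGeometry TopologicalSpace Filter Topology

noncomputable section

namespace GrothLib.AsympCoh5

open GrothLib.Euler (tF)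
open GrothLib.Snapper (DimLT tw hf)
open GrothLib.Cube (Pic clsMod HasCls hasCls_clsMod)

variable {X : Scheme.{u}} [AlgebraicGeometry.IsIntegral X] {k : Type u} [Field k] [X.Over (Spec (CommRingCat.of k))]
  [IsProper (X ↘ Spec (CommRingCat.of k))]

theorem limsup_top_eq_zero {H : X.Modules} (hH : CohB1.IsAmple H) {n : ℕ} (hn : topologicalKrullDim X = n)
    (hn1 : 1 ≤ n) {L : X.Modules} (hL : PicF.IsInvertible L)
    (hbig : 0 < limsup (sq k (Coh.structureModule X) (clsMod hL) n 0) atTop) :
    limsup (sq k (Coh.structureModule X) (clsMod hL) n n) atTop = 0 := by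
  haveI := GrothLib.Euler.isNoetherian_of_proper (X := X) k
  set ℓ := limsup (sq k (Coh.structureModule X) (clsMod hL) n 0) atTop
  obtain ⟨c, hc0, hc1⟩ := exists_rat_btwn (show (0 : ℝ) < ℓ / n.factorial by positivity)
  have hgrow : ∀ N : ℕ, ∃ μ : ℕ, N ≤ μ ∧
      c * (μ : ℚ) ^ n ≤ (GrothLib.Kodaira.h0 k (CohB1.tensorPow L μ) : ℚ) := fun N => by
    have hlt : (c : ℝ) * n.factorial < ℓ := (lt_div_iff₀ (by positivity)).1 hc1
    obtain ⟨μ, hμ, h⟩ := frequently_atTop.1 (frequently_lt_of_lt_limsup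
      (isCoboundedUnder_le_of_le atTop (sq_nonneg k _ _ _ _)) hlt) (N + 1)
    refine ⟨μ, by omega, ?_⟩
    have hμ' : (0 : ℝ) < μ := by exact_mod_cast (show 0 < μ by omega)
    rw [sq, ← hl_eq_hf k ((hasCls_clsMod hL).tensorPow μ) 0, lt_div_iff₀ (by positivity)] at h
    have h' : (c : ℝ) * (μ : ℝ) ^ n < (GrothLib.NefGrowth.hl k (CohB1.tensorPow L μ) 0 : ℝ) := by
      refine lt_of_mul_lt_mul_right ?_ (Nat.cast_nonneg n.factorial)
      linarith
    have h'' : ((c * (μ : ℚ) ^ n : ℚ) : ℝ) ≤ ((GrothLib.NefGrowth.hl k (CohB1.tensorPow L μ) 0 : ℚ) : ℝ) := by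
      push_cast
      exact h'.le
    exact (Rat.cast_le (K := ℝ)).1 h''
  obtain ⟨μ, hμ, φ, hφ⟩ := GrothLib.Kodaira.exists_mono_of_frequently k hn hH hL
    (show (0 : ℚ) < c by exact_mod_cast hc0) hgrow
  obtain ⟨m₀, hm₀⟩ := GrothLib.SerreVanish.exists_forall_subsingleton k hH (isCoh_structure (X := X) k)
  have hzero : ∀ m, m₀ ≤ m → hf k (Coh.structureModule X) ((clsMod hL ^ μ) ^ m) n = 0 := by
    intro m hm
    have hμL := GrothLib.Ample.isInvertible_tensorPow hL μ
    have hA := GrothLib.Ample.isInvertible_tensorPow hH.1 m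
    have hB := GrothLib.Ample.isInvertible_tensorPow hμL m
    obtain ⟨f, hfm⟩ := (GrothLib.Kodaira.pLe_iff hA hB).1 (by
      have := ((GrothLib.Kodaira.pLe_iff hH.1 hμL).2 ⟨φ, hφ⟩).pow m
      rw [GrothLib.Cube.clsMod_tensorPow hH.1, GrothLib.Cube.clsMod_tensorPow hμL]
      exact this)
    haveI := hfm
    have hS : (ShortComplex.mk f (cokernel.π f) (cokernel.condition f)).ShortExact :=
      { exact := ShortComplex.exact_of_g_is_cokernel _ (cokernelIsCokernel f) }
    have cA := GrothLib.Euler.isCoh_of_isInvertible hA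
    have cB := GrothLib.Euler.isCoh_of_isInvertible hB
    have cQ : Coh.IsCoh (cokernel f) := GrothLib.QCoh.isCoh_cokernel f cA cB
    have hQd : DimLT (CohB1.support (cokernel f)) n := by
      refine GrothLib.Snapper.dimLT_of_notMem (η := genericPoint X) (dimLT_support_of_dim hn) ?_
        (GrothLib.QCoh.notMem_support_cokernel_of_surjective f
          (GrothLib.Euler.stalkLin_genericPoint_bijective hA hB (GrothLib.Kodaira.exists_ne_zero_of_mono hA f)).2)
      rw [(genericPoint_spec X).def]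
      exact Set.subset_univ _
    have h1 : GrothLib.NefGrowth.hl k (CohB1.tensorPow H m) n = 0 := by
      haveI := hm₀ m hm n hn1
      rw [← GrothLib.NefGrowth.hl_iso k (GrothLib.GrTilde.tensorModComm (CohB1.tensorPow H m) (Coh.structureModule X)
        ≪≫ Iso.refl _).symm n |>.trans
        (GrothLib.NefGrowth.hl_iso k (GrothLib.Euler.tFUnitIso (CohB1.tensorPow H m)) n)]
      exact Module.finrank_zero_of_subsingleton
    have h2 : GrothLib.NefGrowth.hl k (cokernel f) n = 0 := by
      haveI := GrothLib.HodgeIndex.subsingleton_HH_of_dimLT k hH n _ cQ hQd n le_rfl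
      exact Module.finrank_zero_of_subsingleton
    have h3 : GrothLib.NefGrowth.hl k (CohB1.tensorPow (CohB1.tensorPow L μ) m) n ≤
        GrothLib.NefGrowth.hl k (CohB1.tensorPow H m) n + GrothLib.NefGrowth.hl k (cokernel f) n :=
      GrothLib.NefGrowth.hl_X₂_le k hS cA cB cQ n
    rw [hl_eq_hf k ((((hasCls_clsMod hL).tensorPow μ)).tensorPow m) n] at h3
    omega
  have hF := isCoh_structure (X := X) k
  have hd := dimLT_support_of_dim (S := CohB1.support (Coh.structureModule X)) hn
  have h0 : limsup (sq k (Coh.structureModule X) (clsMod hL ^ μ) n n) atTop = 0 :=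
    (tendsto_const_nhds.congr' (eventually_atTop.2 ⟨m₀, fun m hm => by simp [sq, hzero m hm]⟩)).limsup_eq
  rw [limsup_pow hH hF hd (clsMod hL) hμ n] at h0
  exact (mul_eq_zero.1 h0).resolve_left (pow_ne_zero _ (by exact_mod_cast hμ.ne'))

end GrothLib.AsympCoh5
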