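import Groth.Agent.Lib.AsympCoh5.ZeroInter
import Groth.Agent.Lib.Ample.ProjSections

/-!
# Generating sections of a very ample module, in bounded number
-/

set_option autoImplicit false
set_option linter.all false
set_option backward.isDefEq.respectTransparency false
set_option maxHeartbeats 1000000

universe u

open CategoryTheory CategoryTheory.Limits AlgebraicGeometry TopologicalSpace Opposite
open GrothLib.InvExt (mres IsGen)

noncomputable section

namespace GrothLib.AsympCoh5

variable {k : Type u} [Field k] {X : Scheme.{u}} [X.Over (Spec (CommRingCat.of k))]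
  [IsProper (X ↘ Spec (CommRingCat.of k))]

/-- A very ample module with at most `B` sections is generated near every point by one of `B` sections. -/
theorem exists_gen_sections {M : X.Modules} (hM : PicF.IsInvertible M)
    (hva : RelAmple.IsRelVeryAmplePn (X ↘ Spec (CommRingCat.of k)) M) {B : ℕ}
    (hB : Module.finrank k (Coh.HH X M 0) ≤ B) :
    ∃ τ : Fin B → (Coh.structureModule X ⟶ M), ∀ x : X, ∃ (l : Fin B) (V : X.Opens), x ∈ V ∧
      IsGen M V ((τ l).app V (FinCov.one X V)) := by
  classical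
  haveI := Euler.isNoetherian_of_proper (X := X) k
  obtain ⟨c, ⟨φ⟩⟩ := Ample.exists_cocycle hM
  obtain ⟨n, i, hi, hiq, ⟨d⟩⟩ := hva
  let p1 : CohB1.ProjSpaceOver n (Spec (CommRingCat.of k)) ⟶ CohB1.ProjSpace n (ULift.{u} ℤ) := pullback.fst _ _
  let r0 := i ≫ p1
  let e0 : (Scheme.Modules.pullback r0).obj (Twist.twistProjSpace n (ULift.{u} ℤ) 1) ≅ c.twist 1 :=
    ((Scheme.Modules.pullbackComp i p1).app _).symm ≪≫ d.symm ≪≫ φ
  obtain ⟨hs0, -⟩ := Ample.ProjMap.eq_map_dataOfSections r0 c e0
  let a : Fin (n + 1) → c.sect 1 ⊤ := Ample.ProjMap.sec c e0 (Ample.ProjMap.pullCoord r0)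
  -- a spanning family of size `B`
  haveI := finite_hom_structure (k := k) (Euler.isCoh_of_isInvertible hM)
  let b := Module.finBasis k (Coh.structureModule X ⟶ M)
  have hd : Module.finrank k (Coh.structureModule X ⟶ M) ≤ B :=
    (SerrePn27.homStructureEquiv (k := k) M).finrank_eq.trans_le hB
  refine ⟨fun l => if h : (l : ℕ) < Module.finrank k (Coh.structureModule X ⟶ M) then b ⟨l, h⟩ else 0,
    fun x => ?_⟩
  set τ : Fin B → (Coh.structureModule X ⟶ M) :=
    fun l => if h : (l : ℕ) < Module.finrank k (Coh.structureModule X ⟶ M) then b ⟨l, h⟩ else 0 with hτ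
  -- they generate the stalks
  have hgen : ProjUP.GeneratedBy M (fun l => (τ l).app ⊤ (FinCov.one X ⊤)) := fun y => by
    let S := Submodule.span (X.presheaf.stalk y)
      (Set.range fun l => M.presheaf.germ ⊤ y trivial ((τ l).app ⊤ (FinCov.one X ⊤)))
    have hall : ∀ s : Γ(M, ⊤), M.presheaf.germ ⊤ y trivial s ∈ S := fun s => by
      have e1 : s = (FinCov.homOfSection s).app ⊤ (FinCov.one X ⊤) := by
        refine Eq.trans ?_ (FinCov.homOfSection_one s ⊤).symm
        exact (InvExt.mres_self M s).symm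
      have e2 : ∀ f : Coh.structureModule X ⟶ M, f ∈ Submodule.span k (Set.range τ) →
          M.presheaf.germ ⊤ y trivial (f.app ⊤ (FinCov.one X ⊤)) ∈ S := by
        intro f hf
        induction hf using Submodule.span_induction with
        | mem f hf =>
          obtain ⟨l, rfl⟩ := hf
          exact Submodule.subset_span ⟨l, rfl⟩
        | zero =>
          show M.presheaf.germ ⊤ y trivial (0 : Γ(M, ⊤)) ∈ S
          rw [map_zero]
          exact zero_mem _
        | add f g _ _ hf hg =>
          show M.presheaf.germ ⊤ y trivial (f.app ⊤ (FinCov.one X ⊤) + g.app ⊤ (FinCov.one X ⊤)) ∈ S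
          rw [map_add]
          exact add_mem hf hg
        | smul t f _ hf =>
          rw [KLin.smul_app_apply, WeakAss.germ_smul]
          exact S.smul_mem _ hf
      rw [e1]
      refine e2 _ ?_
      rw [← b.sum_repr (FinCov.homOfSection s)]
      refine Submodule.sum_mem _ fun q _ => Submodule.smul_mem _ _ (Submodule.subset_span ⟨⟨q, q.2.trans_le hd⟩, ?_⟩)
      simp [hτ]
    obtain ⟨j, hj⟩ := Opens.mem_iSup.1 (hs0.ge (Opens.mem_top y))
    have hg : IsGen M (c.locus (a j)) (mres M le_top (φ.inv.app ⊤ (a j))) := by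
      rw [← Ample.app_mres]
      exact (c.isGen_sectRes_locus (a j)).map φ.inv fun W _ => ConcreteCategory.bijective_of_isIso (φ.inv.app W)
    have h := (Ref1.gen_of_isGen hg hj).span
    refine top_le_iff.1 ?_
    rw [← h]
    refine Submodule.span_le.2 (Set.singleton_subset_iff.2 ?_)
    rw [TopCat.Presheaf.germ_res_apply]
    exact hall _
  have hloc := c.iSup_locus_of_generatedBy φ _ hgen
  obtain ⟨l, hl⟩ := Opens.mem_iSup.1 (hloc.ge (Opens.mem_top x))
  refine ⟨l, _, hl, ?_⟩
  have h := (c.isGen_sectRes_locus (show c.sect 1 ⊤ from φ.hom.app ⊤ ((τ l).app ⊤ (FinCov.one X ⊤)))).map φ.inv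
    fun W _ => ConcreteCategory.bijective_of_isIso (φ.inv.app W)
  refine Eq.mp ?_ h
  congr 1
  refine (Ample.app_mres φ.inv le_top _).trans ?_
  rw [show φ.inv.app ⊤ (show c.sect 1 ⊤ from φ.hom.app ⊤ ((τ l).app ⊤ (FinCov.one X ⊤))) =
      (τ l).app ⊤ (FinCov.one X ⊤) from
    congrArg (fun ψ : M ⟶ M => ψ.app ⊤ ((τ l).app ⊤ (FinCov.one X ⊤))) φ.hom_inv_id]
  rw [← Ample.app_mres]
  exact congrArg _ (show mres (Coh.structureModule X) (le_top : _ ≤ (⊤ : X.Opens)) (FinCov.one X ⊤) = FinCov.one X _ from map_one (X.presheaf.map (homOfLE (le_top : _ ≤ (⊤ : X.Opens))).op).hom)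

end GrothLib.AsympCoh5
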