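import Groth.Agent.Lib.AsympCoh5.FamBound
import Groth.Agent.Lib.RegSecEuler20.Step
import Groth.Agent.Lib.SerrePn27.HomTwist
import Groth.Agent.Lib.BddFam20.Core
import Groth.Agent.Lib.Ample.VeryAmpleProd
import Groth.Agent.Lib.NumReg26.Main
import Groth.Agent.Lib.CurveMult.RelNef

/-!
# Common zero schemes of sections as cokernels
-/

set_option autoImplicit false
set_option linter.all false
set_option backward.isDefEq.respectTransparency false
set_option maxHeartbeats 1000000

universe u

open CategoryTheory CategoryTheory.Limits AlgebraicGeometry TopologicalSpace Opposite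
open GrothLib.InvExt (mres IsGen)

noncomputable section

namespace GrothLib.AsympCoh5

open GrothLib.Cube (Pic clsMod HasCls hasCls_clsMod)

variable {X : Scheme.{u}}

/-- If the coefficients of the sections generate the ideal of a closed subscheme, the restriction to it is
the cokernel of the sections. -/
theorem nonempty_cokernel_iso {Z : Scheme.{u}} (ι : Z ⟶ X) [IsClosedImmersion ι] (L : X.Modules)
    [L.IsQuasicoherent] {r : ℕ} (σ : Fin r → (Coh.structureModule X ⟶ L))
    (hloc : ∀ (U : X.Opens), ∀ x ∈ U, ∃ (W : X.affineOpens) (e : Γ(L, W.1)) (c : Fin r → Γ(X, W.1)),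
      x ∈ W.1 ∧ W.1 ≤ U ∧ IsGen L W.1 e ∧ (∀ l, (σ l).app W.1 (FinCov.one X W.1) = c l • e) ∧
        ι.ker.ideal W = Ideal.span (Set.range c)) :
    Nonempty (cokernel (Sigma.desc σ) ≅
      (Scheme.Modules.pushforward ι).obj ((Scheme.Modules.pullback ι).obj L)) := by
  let η := K0Sub.unitApp ι L
  let π := cokernel.π (Sigma.desc σ)
  have hη := fun U => K0Sub.app_unit_surjective_and_ker ι L U
  have hπ : ∀ l, σ l ≫ π = 0 := fun l => by
    rw [← Sigma.ι_desc σ l, Category.assoc, cokernel.condition, comp_zero]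
  have hw : ∀ l, σ l ≫ η = 0 := fun l => by
    refine CurveMult.hom_ext_one _ _ ?_
    choose W e c hxW _ he hc hI using fun y : X => hloc ⊤ y trivial
    refine Ample.meq_of_cover _ (fun y => (W y).1) (fun y => le_top)
      (fun y _ => Opens.mem_iSup.2 ⟨y, hxW y⟩) fun y => ?_
    rw [← Ample.app_mres, ← Ample.app_mres]
    show η.app (W y).1 ((σ l).app (W y).1 (mres (Coh.structureModule X) le_top (FinCov.one X ⊤))) = _
    rw [show mres (Coh.structureModule X) (le_top : (W y).1 ≤ ⊤) (FinCov.one X ⊤) = FinCov.one X (W y).1 from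
      map_one (X.presheaf.map (homOfLE (le_top : (W y).1 ≤ ⊤)).op).hom, hc]
    exact ((hη (W y)).2 _).2 (Submodule.smul_mem_smul (by rw [hI]; exact Ideal.subset_span ⟨l, rfl⟩) trivial)
  let f : cokernel (Sigma.desc σ) ⟶ _ := cokernel.desc (Sigma.desc σ) η
    (Sigma.hom_ext _ _ fun l => by rw [Sigma.ι_desc_assoc, comp_zero]; exact hw l)
  have hk : ∀ (U : X.affineOpens) (m : Γ(L, U.1)), η.app U.1 m = 0 → π.app U.1 m = 0 := by
    intro U m hm
    choose W e c hxW hWU he hc hI using fun y : U.1 => hloc U.1 y.1 y.2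
    refine Ample.meq_of_cover _ (fun y => (W y).1) hWU
      (fun y hy => Opens.mem_iSup.2 ⟨⟨y, hy⟩, hxW _⟩) fun y => ?_
    refine Eq.trans ?_ (map_zero _).symm
    rw [← Ample.app_mres]
    have h1 := ((hη (W y)).2 (mres L (hWU y) m)).1 (by rw [Ample.app_mres, hm]; exact map_zero _)
    rw [hI] at h1
    refine Submodule.smul_induction_on h1 (fun a ha n _ => ?_)
      fun a b ha hb => by rw [map_add, ha, hb, add_zero]
    obtain ⟨b, hb⟩ := (he y).exists_smul_eq le_rfl n
    rw [InvExt.mres_self] at hb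
    obtain ⟨g, rfl⟩ := Ideal.mem_span_range_iff_exists_fun.1 ha
    rw [hb, smul_smul, Finset.sum_mul, Finset.sum_smul, map_sum]
    refine Finset.sum_eq_zero fun l _ => ?_
    rw [mul_right_comm, mul_smul, Ample.app_smul, ← hc]
    have := congrArg (fun φ : Coh.structureModule X ⟶ cokernel (Sigma.desc σ) =>
      φ.app (W y).1 (FinCov.one X (W y).1)) (hπ l)
    exact (congrArg (_ • ·) this).trans (smul_zero _)
  obtain ⟨g, hg⟩ := LocalHilb26.exists_hom_of_surj (M := (Scheme.Modules.pushforward ι).obj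
      ((Scheme.Modules.pullback ι).obj L)) (N := cokernel (Sigma.desc σ))
    (fun U => Γ(L, U.1)) (fun U => η.app U.1) (fun U => π.app U.1) (fun U => (hη U).1)
    (fun U a b h => sub_eq_zero.1 (by rw [← map_sub]; exact hk U _ (by rw [map_sub, h, sub_self])))
    (fun U a b => ⟨a + b, map_add _ _ _, map_add _ _ _⟩)
    (fun U r a => ⟨r • a, Scheme.Modules.Hom.app_smul _ _ _, Scheme.Modules.Hom.app_smul _ _ _⟩)
    (fun U V h a => ⟨_, LocalHilb26.app_map η h a, LocalHilb26.app_map π h a⟩)
  have hπf : π ≫ f = η := cokernel.π_desc _ _ _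
  have hgf : g ≫ f = 𝟙 _ := AffHom.hom_ext fun U y => by
    obtain ⟨m, rfl⟩ := (hη U).1 y
    show f.app U.1 (g.app U.1 (η.app U.1 m)) = _
    rw [hg]
    exact congrArg (fun φ : L ⟶ _ => φ.app U.1 m) hπf
  have hηg : η ≫ g = π := AffHom.hom_ext fun U m => hg U m
  exact ⟨⟨f, g, by rw [← cancel_epi π, ← Category.assoc, hπf, hηg, Category.comp_id], hgf⟩⟩


variable {k : Type u} [Field k] [X.Over (Spec (CommRingCat.of k))]
  [IsProper (X ↘ Spec (CommRingCat.of k))]

theorem finite_hom_structure {L : X.Modules} (hL : Coh.IsCoh L) :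
    Module.Finite k (Coh.structureModule X ⟶ L) := by
  haveI : Module.Finite k (Coh.HH X L 0) := Euler.finiteDimensional_HH k hL 0
  exact Module.Finite.equiv (SerrePn27.homStructureEquiv (k := k) L).symm

/-- The cokernels of all families of `r` sections form a bounded family. -/
theorem isBounded_cokernel_sections {L : X.Modules} (hL : Coh.IsCoh L) (r : ℕ) :
    Pic13.IsBounded k X (fun F => ∃ σ : Fin r → (Coh.structureModule X ⟶ L),
      Nonempty (cokernel (Sigma.desc σ) ≅ F)) := by
  classical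
  haveI := Euler.isNoetherian_of_proper (X := X) k
  haveI := finite_hom_structure (k := k) hL
  let b := Module.finBasis k (Coh.structureModule X ⟶ L)
  let E := (finProdFinEquiv (m := r) (n := Module.finrank k (Coh.structureModule X ⟶ L))).symm
  refine BddFam20.isBounded_mono (BddFam20.isBounded_cokernel
    (R := ∐ fun _ : Fin r => Coh.structureModule X) (A := L)
    (CurveMult.RelNef.isCoh_sigma_const (Euler.isInvertible_structure (X := X)) r) hL
    (fun q => Sigma.desc (Pi.single (E q).1 (b (E q).2)))) ?_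
  rintro F ⟨σ, ⟨e⟩⟩
  refine ⟨fun q => b.repr (σ (E q).1) (E q).2, ⟨cokernelIsoOfEq ?_ ≪≫ e⟩⟩
  refine Sigma.hom_ext _ _ fun j => ?_
  rw [Preadditive.comp_sum, Sigma.ι_desc, ← Equiv.sum_comp E.symm, Fintype.sum_prod_type,
    Finset.sum_eq_single j]
  · simp only [Equiv.apply_symm_apply, Linear.comp_smul, Sigma.ι_desc, Pi.single_eq_same]
    exact b.sum_repr _
  · intro i _ hij
    refine Finset.sum_eq_zero fun l _ => ?_
    simp only [Equiv.apply_symm_apply, Linear.comp_smul, Sigma.ι_desc, Pi.single_eq_of_ne hij.symm, smul_zero]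
  · exact fun h => absurd (Finset.mem_univ _) h

omit [IsProper (X ↘ Spec (CommRingCat.of k))] in
/-- Twists of a bounded family. -/
theorem isBounded_tensor {R : X.Modules → Prop} (hb : Pic13.IsBounded k X R)
    [LocallyOfFiniteType (X ↘ Spec (CommRingCat.of k))] {E : X.Modules} (hE : PicF.IsInvertible E) :
    Pic13.IsBounded k X (fun F' => ∃ F, R F ∧ Nonempty ((Euler.tF E).obj F ≅ F')) := by
  obtain ⟨T, q, hft, hqc, G, hG, hall⟩ := hb
  haveI := hft
  haveI := hqc
  let pr : Pic13.prodK k X q ⟶ X := pullback.fst _ _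
  haveI : IsLocallyNoetherian (Pic13.prodK k X q) :=
    haveI : IsLocallyNoetherian T := LocallyOfFiniteType.isLocallyNoetherian q
    LocallyOfFiniteType.isLocallyNoetherian (pullback.snd (X ↘ Spec (CommRingCat.of k)) q)
  let E' := (Scheme.Modules.pullback pr).obj E
  refine ⟨T, q, hft, hqc, CohB1.tensorMod G E',
    Euler.isCoh_tF hG (Euler.isFinLocFree_of_isInvertible (Ample.isInvertible_pullback pr hE)), ?_⟩
  rintro F' ⟨F, hF, ⟨e'⟩⟩
  obtain ⟨t, ht, ⟨e⟩⟩ := hall F hF
  let s := Pic13.sliceAt k X q t ht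
  have hs : s ≫ pr = 𝟙 X := pullback.lift_fst _ _ _
  exact ⟨t, ht, ⟨OX.pullTensorIso s G E' ≪≫
    ((DCoh.tensorBi (X := X)).obj _).mapIso ((Scheme.Modules.pullbackComp s pr).app E ≪≫
      (Scheme.Modules.pullbackCongr hs).app E ≪≫ (Scheme.Modules.pullbackId X).app E) ≪≫
    (Euler.tF E).mapIso e ≪≫ e'⟩⟩

end GrothLib.AsympCoh5
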